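import Groth.Agent.H02CA.Euler.EndTwist
import Groth.Agent.H22Alg.PnSections

/-!
Constant matrices as maps of sums of twisting sheaves; a point of a hyperplane system.
-/

set_option autoImplicit false
set_option linter.style.haveILetI false
set_option backward.isDefEq.respectTransparency false

universe u

open CategoryTheory CategoryTheory.Limits AlgebraicGeometry TopologicalSpace Opposite MvPolynomial
open Groth.Agent.H11Tilde Groth.Agent.H10Coh.Pn

namespace Groth.Agent.H02CA.Euler

section

variable {X : Scheme.{u}} {k : Type u} [CommRing k] (g : k →+* Coh.Γtop X) (L : X.Modules)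

/-- Scalars acting on a module, as a ring map to endomorphisms. -/
theorem smulModΓ_add (a b : Coh.Γtop X) :
    Formal.smulModΓ L (a + b) = Formal.smulModΓ L a + Formal.smulModΓ L b := by
  refine Scheme.Modules.hom_ext _ _ fun U => ConcreteCategory.hom_ext _ _ fun m => ?_
  show (Formal.smulModΓ L (a + b)).app U m = (Formal.smulModΓ L a).app U m + (Formal.smulModΓ L b).app U m
  rw [smulModΓ_app, smulModΓ_app, smulModΓ_app, ← add_smul, ← map_add]

theorem smulModΓ_mul (a b : Coh.Γtop X) :
    Formal.smulModΓ L (a * b) = Formal.smulModΓ L b ≫ Formal.smulModΓ L a := by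
  refine Scheme.Modules.hom_ext _ _ fun U => ConcreteCategory.hom_ext _ _ fun m => ?_
  show (Formal.smulModΓ L (a * b)).app U m = (Formal.smulModΓ L a).app U ((Formal.smulModΓ L b).app U m)
  rw [smulModΓ_app, smulModΓ_app, smulModΓ_app, smul_smul, ← map_mul]

theorem smulModΓ_one : Formal.smulModΓ L (1 : Coh.Γtop X) = 𝟙 L := by
  refine Scheme.Modules.hom_ext _ _ fun U => ConcreteCategory.hom_ext _ _ fun m => ?_
  show (Formal.smulModΓ L (1 : Coh.Γtop X)).app U m = m
  rw [smulModΓ_app]
  erw [map_one, one_smul]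

theorem smulModΓ_zero : Formal.smulModΓ L (0 : Coh.Γtop X) = 0 := by
  have h := smulModΓ_add L 0 0
  rw [add_zero] at h
  exact left_eq_add.1 h

/-- A constant matrix as a map of finite sums of copies of `L`. -/
noncomputable def mat {a b : ℕ} (M : (Fin a → k) →ₗ[k] (Fin b → k)) :
    (∐ fun _ : Fin a => L) ⟶ ∐ fun _ : Fin b => L :=
  Sigma.desc fun l => ∑ j, Formal.smulModΓ L (g (M (Pi.single l 1) j)) ≫ Sigma.ι (fun _ : Fin b => L) j

theorem ι_mat {a b : ℕ} (M : (Fin a → k) →ₗ[k] (Fin b → k)) (l : Fin a) :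
    Sigma.ι (fun _ : Fin a => L) l ≫ mat g L M =
      ∑ j, Formal.smulModΓ L (g (M (Pi.single l 1) j)) ≫ Sigma.ι (fun _ : Fin b => L) j :=
  Sigma.ι_desc _ _

theorem mat_zero {a b : ℕ} : mat g L (0 : (Fin a → k) →ₗ[k] (Fin b → k)) = 0 :=
  Sigma.hom_ext _ _ fun l => by
    rw [ι_mat, comp_zero]
    refine Finset.sum_eq_zero fun j _ => ?_
    rw [LinearMap.zero_apply, Pi.zero_apply, map_zero, smulModΓ_zero, zero_comp]

theorem mat_add {a b : ℕ} (M M' : (Fin a → k) →ₗ[k] (Fin b → k)) :
    mat g L (M + M') = mat g L M + mat g L M' :=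
  Sigma.hom_ext _ _ fun l => by
    rw [Preadditive.comp_add, ι_mat, ι_mat, ι_mat, ← Finset.sum_add_distrib]
    refine Finset.sum_congr rfl fun j _ => ?_
    rw [LinearMap.add_apply, Pi.add_apply, map_add, smulModΓ_add, Preadditive.add_comp]

theorem mat_id {a : ℕ} : mat g L (LinearMap.id : (Fin a → k) →ₗ[k] (Fin a → k)) = 𝟙 _ :=
  Sigma.hom_ext _ _ fun l => by
    rw [ι_mat, Category.comp_id, Finset.sum_eq_single l]
    · rw [LinearMap.id_apply, Pi.single_eq_same, map_one, smulModΓ_one, Category.id_comp]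
    · intro j _ hj
      rw [LinearMap.id_apply, Pi.single_eq_of_ne hj, map_zero, smulModΓ_zero, zero_comp]
    · simp

theorem smulModΓ_sum {ι : Type*} (s : Finset ι) (f : ι → Coh.Γtop X) :
    Formal.smulModΓ L (∑ i ∈ s, f i) = ∑ i ∈ s, Formal.smulModΓ L (f i) := by
  classical
  induction s using Finset.induction_on with
  | empty => exact smulModΓ_zero L
  | insert i t hi ih => rw [Finset.sum_insert hi, Finset.sum_insert hi, smulModΓ_add, ih]

theorem mat_comp {a b c : ℕ} (M : (Fin a → k) →ₗ[k] (Fin b → k)) (M' : (Fin b → k) →ₗ[k] (Fin c → k)) :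
    mat g L M ≫ mat g L M' = mat g L (M' ∘ₗ M) :=
  Sigma.hom_ext _ _ fun l => by
    rw [← Category.assoc, ι_mat, ι_mat, Preadditive.sum_comp]
    simp only [Category.assoc, ι_mat, Preadditive.comp_sum]
    rw [Finset.sum_comm]
    refine Finset.sum_congr rfl fun i _ => ?_
    have h : (M' ∘ₗ M) (Pi.single l 1) i = ∑ j, M' (Pi.single j 1) i * M (Pi.single l 1) j := by
      rw [LinearMap.comp_apply]
      conv_lhs => rw [pi_eq_sum_univ' (M (Pi.single l 1))]
      simp [mul_comm]
    rw [h, map_sum, smulModΓ_sum, Preadditive.sum_comp]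
    refine Finset.sum_congr rfl fun j _ => ?_
    rw [map_mul, smulModΓ_mul, Category.assoc]

end

variable {k : Type u} [Field k] {n : ℕ}

/-- Linear forms killed by a nonzero vector have a common point. -/
theorem exists_point_of_vec (v : Fin (n + 1) → k) (hv : v ≠ 0) :
    ∃ y : Proj (Gr n k), ∀ c : Fin (n + 1) → k, ∑ j, c j * v j = 0 →
      (∑ j, C (c j) * X j) ∈ y.asHomogeneousIdeal.toIdeal := by
  let ev : MvPolynomial (Fin (n + 1)) k →+* Polynomial k :=
    eval₂Hom Polynomial.C fun j => Polynomial.C (v j) * Polynomial.X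
  have hev : ∀ (r : MvPolynomial (Fin (n + 1)) k) (d : ℕ),
      ev (homogeneousComponent d r) = Polynomial.monomial d ((ev r).coeff d) := by
    intro r d
    induction r using MvPolynomial.induction_on' with
    | monomial s a =>
      have hm : ev (monomial s a) = Polynomial.monomial s.degree (a * s.prod fun j e => v j ^ e) := by
        rw [← Polynomial.C_mul_X_pow_eq_monomial]
        show eval₂Hom Polynomial.C _ (monomial s a) = _
        rw [eval₂Hom_monomial, Finsupp.degree_apply, Finsupp.prod, Finsupp.prod]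
        simp only [mul_pow, Finset.prod_mul_distrib, Finset.prod_pow_eq_pow_sum, map_mul, map_prod, map_pow]
        ring
      rw [homogeneousComponent_of_mem (isHomogeneous_monomial a rfl), hm, Polynomial.coeff_monomial]
      rcases eq_or_ne d s.degree with rfl | hd
      · rw [if_pos rfl, if_pos rfl, hm]
      · rw [if_neg hd, if_neg hd.symm, map_zero, Polynomial.monomial_zero_right]
    | add p q hp hq => rw [map_add, map_add, hp, hq, map_add, Polynomial.coeff_add, map_add]
  let I : Ideal (MvPolynomial (Fin (n + 1)) k) := RingHom.ker ev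
  have hI : I.IsHomogeneous (Gr n k) := fun d r hr => by
    rw [RingHom.mem_ker] at hr ⊢
    rw [show ((DirectSum.decompose (Gr n k) r d : MvPolynomial (Fin (n + 1)) k)) = homogeneousComponent d r from
      MvPolynomial.decomposition.decompose'_apply r d, hev, hr, Polynomial.coeff_zero, map_zero]
  haveI hp : I.IsPrime := RingHom.ker_isPrime ev
  obtain ⟨p, hvp⟩ : ∃ p, v p ≠ 0 := by
    by_contra h
    exact hv (funext fun p => not_not.1 fun hp => h ⟨p, hp⟩)
  have hirr : ¬ HomogeneousIdeal.irrelevant (Gr n k) ≤ (⟨I, hI⟩ : HomogeneousIdeal (Gr n k)) := fun hle => by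
    have h : (X p : MvPolynomial (Fin (n + 1)) k) ∈ I :=
      hle (HomogeneousIdeal.mem_irrelevant_of_mem (Gr n k) Nat.one_pos (X_mem (R := k) p))
    rw [RingHom.mem_ker, eval₂Hom_X', mul_eq_zero, Polynomial.C_eq_zero] at h
    exact h.elim hvp Polynomial.X_ne_zero
  refine ⟨⟨⟨I, hI⟩, hp, hirr⟩, fun c hc => ?_⟩
  show ev _ = 0
  rw [map_sum]
  simp only [map_mul, ev, eval₂Hom_C, eval₂Hom_X', ← mul_assoc, ← Finset.sum_mul]
  simp only [← Polynomial.C_mul]
  rw [← map_sum, hc, map_zero, zero_mul]

end Groth.Agent.H02CA.Euler
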