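import Groth.Agent.H02CA.Euler.Sequence
import Groth.Agent.H10Coh.Pn.Results
import Groth.Agent.H11Tilde.TwistPow
import Groth.Prelude.Def_Formal

/-!
Endomorphisms of `O(m)` on projective space are multiplications by constants.
-/

set_option autoImplicit false
set_option backward.isDefEq.respectTransparency false

universe u

open CategoryTheory CategoryTheory.Limits AlgebraicGeometry TopologicalSpace Opposite MvPolynomial
open Groth.Agent.H11Tilde Groth.Agent.H10Coh.Pn

namespace Groth.Agent.H02CA.Euler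

variable {n : ℕ} {R : Type u} [CommRing R]

local notation "P" => Proj (Gr n R)
local notation "Ax" x => GrTwist.Loc (Gr n R) x

theorem smulModΓ_app {X : Scheme.{u}} (M : X.Modules) (r : Coh.Γtop X) (U : X.Opens) (m : Γ(M, U)) :
    (Formal.smulModΓ M r).app U m = X.presheaf.map (homOfLE (le_top : U ≤ ⊤)).op (show Γ(X, ⊤) from r) • m := rfl

theorem smulModΓ_natural {X : Scheme.{u}} {M N : X.Modules} (φ : M ⟶ N) (r : Coh.Γtop X) :
    Formal.smulModΓ M r ≫ φ = φ ≫ Formal.smulModΓ N r := by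
  refine Scheme.Modules.hom_ext _ _ fun U => ConcreteCategory.hom_ext _ _ fun m => ?_
  show φ.app U ((Formal.smulModΓ M r).app U m) = (Formal.smulModΓ N r).app U (φ.app U m)
  rw [smulModΓ_app, smulModΓ_app, Scheme.Modules.Hom.app_smul]

theorem toSheaf_smulModΓ {X : Scheme.{u}} (M : X.Modules) (r : Coh.Γtop X) :
    (SheafOfModules.toSheaf X.ringCatSheaf).map (Formal.smulModΓ M r) = Coh.smulAb M r := rfl

/-- Degree `-1` generator on an open inside a chart. -/
noncomputable def genNeg (i : Fin (n + 1)) {V : (P).Opens} (hV : V ≤ chart i) : Γ(Od n R (-1), V) :=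
  secOf (Gr n R) (Gr n R) (SetLike.one_mem_graded (Gr n R)) (X_mem (R := R) i) (fun _ hy => hV hy) (by simp)

theorem sval_genNeg (i : Fin (n + 1)) {V : (P).Opens} (hV : V ≤ chart i) (x : V) :
    sval (Gr n R) (Gr n R) (genNeg i hV) x = Localization.mk 1 ⟨X i, hV x.2⟩ := rfl

theorem bijective_smul_genNeg (i : Fin (n + 1)) {V : (P).Opens} (hV : V ≤ chart i) :
    Function.Bijective fun r : Γ(P, V) => r • genNeg i hV :=
  bijective_smul_gen (Gr n R) (SetLike.one_mem_graded (Gr n R)) (X_mem (R := R) i)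
    (fun y _ => one_notMem (Gr n R) y) (fun y (hy : y ∈ V) => hV hy) (by simp) _ fun _ => rfl

theorem exists_end_eq_smul (φ : Od n R (-1) ⟶ Od n R (-1)) :
    ∃ r : R, φ = Formal.smulModΓ (Od n R (-1)) (Coh.toGlobal (toS n R) r) := by
  choose g hg using fun i : Fin (n + 1) => (bijective_smul_genNeg (R := R) i le_rfl).2 (φ.app _ (genNeg i le_rfl))
  have happ : ∀ (i : Fin (n + 1)) (V : (P).Opens) (hV : V ≤ chart i),
      φ.app V (genNeg i hV) = (P).presheaf.map (homOfLE hV).op (g i) • genNeg i hV := fun i V hV => by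
    rw [show genNeg (R := R) i hV = (Od n R (-1)).presheaf.map (homOfLE hV).op (genNeg i le_rfl) from rfl,
      app_res, ← hg i]
    exact Scheme.Modules.map_smul _ _ _ _
  have hagree : ∀ (i j : Fin (n + 1)) (y : P) (hi : y ∈ chart i) (hj : y ∈ chart j),
      fval (Gr n R) (g i) ⟨y, hi⟩ = fval (Gr n R) (g j) ⟨y, hj⟩ := by
    intro i j y hi hj
    obtain ⟨t, ht⟩ := (bijective_smul_genNeg (R := R) i (inf_le_left : chart i ⊓ chart j ≤ chart i)).2
      (genNeg j inf_le_right)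
    have ht' : t • genNeg i (inf_le_left : chart (R := R) i ⊓ chart j ≤ chart i) = genNeg j inf_le_right := ht
    have h := congrArg (φ.app (chart i ⊓ chart j)) ht'
    rw [Scheme.Modules.Hom.app_smul, happ, happ, smul_comm, ht'] at h
    have h2 := congrArg (fun s => sval (Gr n R) (Gr n R) s ⟨y, (⟨hi, hj⟩ : y ∈ chart i ⊓ chart j)⟩) h
    simp only [sval_smul, fval_map, sval_genNeg, smul_eq_mul] at h2
    exact ((isUnit_mk_iff (Gr n R) y 1 _).2 (one_notMem (Gr n R) y)).mul_left_injective h2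
  choose ix hix using fun y : P => H11Ample.exists_mem_basicOpen_X (n := n) (R := R) y
  let G : Γ(P, ⊤) :=
    show GrTwist.O (𝒜 := Gr n R) (op ⊤) from
    ⟨fun y => (show GrTwist.O (𝒜 := Gr n R) (op (chart (ix y.1))) from g (ix y.1)).1 ⟨y.1, hix y.1⟩, fun y => by
      obtain ⟨W, hxW, hW, e, a, s, ha, hs, hnin, hv⟩ := exists_local (chart (ix y.1)) (g (ix y.1)) ⟨y.1, hix y.1⟩
      refine ⟨W, hxW, homOfLE le_top, e, ⟨a, ha⟩, ⟨s, hs⟩, fun z => hnin z.1 z.2, fun z => ?_⟩
      refine HomogeneousLocalization.val_injective _ ?_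
      refine Eq.trans ?_ (HomogeneousLocalization.val_mk _).symm
      exact (hagree (ix z.1) (ix y.1) z.1 (hix z.1) (hW z.2)).trans (hv z)⟩
  obtain ⟨r, hr⟩ := (bijective_constΓ (n := n) (R := R)).2 G
  refine ⟨r, Scheme.Modules.hom_ext _ _ fun U => ConcreteCategory.hom_ext _ _ fun s => sval_ext _ _ fun y => ?_⟩
  let V : (P).Opens := U ⊓ chart (ix y.1)
  obtain ⟨f, hf⟩ := (bijective_smul_genNeg (R := R) (ix y.1) (inf_le_right : V ≤ chart (ix y.1))).2
    ((Od n R (-1)).presheaf.map (homOfLE (inf_le_left : V ≤ U)).op s)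
  have h := congrArg (fun σ => sval (Gr n R) (Gr n R) σ ⟨y.1, (⟨y.2, hix y.1⟩ : y.1 ∈ V)⟩)
    (app_res φ (inf_le_left : V ≤ U) s)
  simp only [← hf, Scheme.Modules.Hom.app_smul, happ, sval_smul, sval_map, fval_map] at h
  have hs : sval (Gr n R) (Gr n R) s y =
      fval (Gr n R) f ⟨y.1, (⟨y.2, hix y.1⟩ : y.1 ∈ V)⟩ * Localization.mk 1 ⟨X (ix y.1), hix y.1⟩ :=
    (congrArg (fun σ => sval (Gr n R) (Gr n R) σ ⟨y.1, (⟨y.2, hix y.1⟩ : y.1 ∈ V)⟩) hf).symm
  rw [← h, smulModΓ_app, sval_smul, fval_map, sval_genNeg, hs]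
  have hG : fval (Gr n R) (show Γ(P, ⊤) from Coh.toGlobal (toS n R) r) ⟨y.1, trivial⟩ =
      fval (Gr n R) (g (ix y.1)) ⟨y.1, hix y.1⟩ := by
    rw [show (show Γ(P, ⊤) from Coh.toGlobal (toS n R) r) = G from hr]
    rfl
  rw [hG]
  simp only [smul_eq_mul]
  ring

theorem exists_end_zero (φ : Od n R 0 ⟶ Od n R 0) :
    ∃ r : R, φ = Formal.smulModΓ (Od n R 0) (Coh.toGlobal (toS n R) r) := by
  let one0 : ∀ V : (P).Opens, Γ(Od n R 0, V) := fun V => secOf (Gr n R) (Gr n R) (SetLike.one_mem_graded (Gr n R))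
    (SetLike.one_mem_graded (Gr n R)) (fun y (_ : y ∈ V) => one_notMem (Gr n R) y) (by simp)
  have hb : ∀ V : (P).Opens, Function.Bijective fun r : Γ(P, V) => r • one0 V := fun V =>
    bijective_smul_gen (Gr n R) (SetLike.one_mem_graded (Gr n R)) (SetLike.one_mem_graded (Gr n R))
      (fun y _ => one_notMem (Gr n R) y) (fun y _ => one_notMem (Gr n R) y) (by simp) _ fun _ => rfl
  obtain ⟨g, hg⟩ := (hb ⊤).2 (φ.app ⊤ (one0 ⊤))
  obtain ⟨r, hr⟩ := (bijective_constΓ (n := n) (R := R)).2 g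
  refine ⟨r, Scheme.Modules.hom_ext _ _ fun U => ConcreteCategory.hom_ext _ _ fun s => ?_⟩
  obtain ⟨f, rfl⟩ := (hb U).2 s
  rw [smulModΓ_app, Scheme.Modules.Hom.app_smul,
    show one0 U = (Od n R 0).presheaf.map (homOfLE (le_top : U ≤ ⊤)).op (one0 ⊤) from rfl, app_res, ← hg,
    Scheme.Modules.map_smul, smul_smul, smul_smul, mul_comm]
  rw [show (show Γ(P, ⊤) from Coh.toGlobal (toS n R) r) = g from hr]

/-- A linear relation between the ratios on projective space over a field is trivial. -/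
theorem eq_zero_of_sum_mk {k : Type u} [Field k] [Nonempty (Proj (Gr n k))] (c : Fin (n + 1) → k)
    (h : ∀ y : Proj (Gr n k), (Localization.mk (∑ l, C (c l) * X l) 1 : GrTwist.Loc (Gr n k) y) = 0) :
    ∀ l, c l = 0 := by
  obtain ⟨y⟩ := ‹Nonempty (Proj (Gr n k))›
  have hy := h y
  rw [Localization.mk_one_eq_algebraMap, IsLocalization.map_eq_zero_iff y.asHomogeneousIdeal.toIdeal.primeCompl] at hy
  obtain ⟨⟨t, ht⟩, htm⟩ := hy
  have h0 : (∑ l, C (c l) * X l : MvPolynomial (Fin (n + 1)) k) = 0 :=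
    (mul_eq_zero.1 htm).resolve_left fun h0 => ht (by rw [show t = 0 from h0]; exact zero_mem _)
  intro l
  have := congrArg (coeff (Finsupp.single l 1)) h0
  classical
  simpa [coeff_sum, coeff_X, Finsupp.single_left_inj] using this

end Groth.Agent.H02CA.Euler
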