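import Groth.Agent.H02CA.Euler.EndTwist
import Groth.Agent.H22Alg.PnSections

/-!
Maps `O(-1) → O` on projective space are linear forms.
-/

set_option autoImplicit false
set_option linter.style.haveILetI false
set_option backward.isDefEq.respectTransparency false
set_option maxHeartbeats 800000

universe u

open CategoryTheory CategoryTheory.Limits AlgebraicGeometry TopologicalSpace Opposite MvPolynomial
open Groth.Agent.H11Tilde Groth.Agent.H10Coh.Pn

namespace Groth.Agent.H02CA.Euler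

variable {n : ℕ} {R : Type u} [CommRing R]

local notation "P" => Proj (Gr n R)
local notation "Ax" x => GrTwist.Loc (Gr n R) x

theorem exists_coeff_of_mem {m : MvPolynomial (Fin (n + 1)) R} (hm : m ∈ Gr n R 1) :
    ∃ c : Fin (n + 1) → R, ∑ l, C (c l) * X l = m := by
  have h : m ∈ MvPolynomial.homogeneousSubmodule (Fin (n + 1)) R 1 := hm
  rw [MvPolynomial.homogeneousSubmodule_one_eq_span_X, Submodule.mem_span_range_iff_exists_fun] at h
  obtain ⟨c, hc⟩ := h
  exact ⟨c, by simpa only [MvPolynomial.smul_eq_C_mul] using hc⟩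

theorem sval_const_mulX (c : R) (l : Fin (n + 1)) {U : (P).Opens} (s : Γ(Od n R (-1), U)) (y : U) :
    sval (Gr n R) (Gr n R) ((Formal.smulModΓ (Od n R (-1)) (Coh.toGlobal (toS n R) c) ≫ mulX l (-1) 0 rfl).app U s) y =
      (show GrTwist.Loc (Gr n R) y.1 from Localization.mk (C c * X l) 1) • sval (Gr n R) (Gr n R) s y := by
  obtain ⟨i, hi⟩ := H11Ample.exists_mem_basicOpen_X (n := n) (R := R) y.1
  show sval _ _ ((mulX l (-1) 0 rfl).app U ((Formal.smulModΓ _ (Coh.toGlobal (toS n R) c)).app U s)) y = _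
  rw [sval_mulX, smulModΓ_app, sval_smul, fval_map,
    show fval (Gr n R) (show Γ(P, ⊤) from Coh.toGlobal (toS n R) c) ⟨y.1, trivial⟩ = Localization.mk (C c) 1 from
      fval_constΓ (X_mem (R := R) i) Nat.one_pos c ⟨y.1, hi⟩]
  simp only [smul_eq_mul]
  rw [← mul_assoc, Localization.mk_mul, one_mul, mul_comm (X l)]

/-- Maps `O(-1) → O` are combinations of the coordinate maps. -/
theorem exists_linForm (f : Od n R (-1) ⟶ Od n R 0) :
    ∃ c : Fin (n + 1) → R,
      f = ∑ l, Formal.smulModΓ (Od n R (-1)) (Coh.toGlobal (toS n R) (c l)) ≫ mulX l (-1) 0 rfl := by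
  let σ : ∀ i : Fin (n + 1), Γ(Od n R ((1 : ℕ) : ℤ), chart i) := fun i =>
    (mulX i 0 ((1 : ℕ) : ℤ) (by simp)).app (chart i) (f.app _ (genNeg i le_rfl))
  have hval : ∀ (i : Fin (n + 1)) (V : (P).Opens) (hV : V ≤ chart i) (y : V),
      sval (Gr n R) (Gr n R) (σ i) ⟨y.1, hV y.2⟩ = (show GrTwist.Loc (Gr n R) y.1 from Localization.mk (X i) 1) •
        sval (Gr n R) (Gr n R) (f.app V (genNeg i hV)) y := by
    intro i V hV y
    rw [show genNeg (R := R) i hV = (Od n R (-1)).presheaf.map (homOfLE hV).op (genNeg i le_rfl) from rfl,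
      app_res, sval_map]
    exact sval_mulX ..
  have hagree : ∀ (i j : Fin (n + 1)) (y : P) (hi : y ∈ chart i) (hj : y ∈ chart j),
      sval (Gr n R) (Gr n R) (σ i) ⟨y, hi⟩ = sval (Gr n R) (Gr n R) (σ j) ⟨y, hj⟩ := by
    intro i j y hi hj
    let V : (P).Opens := chart i ⊓ chart j
    obtain ⟨t, ht⟩ := (bijective_smul_genNeg (R := R) i (inf_le_left : V ≤ chart i)).2 (genNeg j inf_le_right)
    have ht' : t • genNeg i (inf_le_left : V ≤ chart (R := R) i) = genNeg j inf_le_right := ht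
    rw [show sval (Gr n R) (Gr n R) (σ i) ⟨y, hi⟩ = _ from hval i V inf_le_left ⟨y, ⟨hi, hj⟩⟩,
      show sval (Gr n R) (Gr n R) (σ j) ⟨y, hj⟩ = _ from hval j V inf_le_right ⟨y, ⟨hi, hj⟩⟩,
      ← ht', Scheme.Modules.Hom.app_smul, sval_smul]
    have h2 := congrArg (fun s => sval (Gr n R) (Gr n R) s (⟨y, ⟨hi, hj⟩⟩ : V)) ht'
    simp only [sval_smul, sval_genNeg, smul_eq_mul] at h2
    simp only [smul_eq_mul]
    have hone : ∀ (l : Fin (n + 1)) (h : y ∈ chart (R := R) l),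
        (Localization.mk (X l) 1 * Localization.mk 1 ⟨X l, h⟩ : Ax y) = 1 := fun l h => by
      rw [Localization.mk_mul, one_mul, mul_one]
      exact Localization.mk_self (⟨X l, h⟩ : primeC y)
    have h3 : (fval (Gr n R) t ⟨y, ⟨hi, hj⟩⟩ * Localization.mk (X j) 1 : Ax y) = Localization.mk (X i) 1 := by
      calc _ = Localization.mk (X i) 1 * (fval (Gr n R) t ⟨y, ⟨hi, hj⟩⟩ * Localization.mk 1 ⟨X i, hi⟩) *
            Localization.mk (X j) 1 := by
              rw [mul_left_comm (Localization.mk (X i) 1 : Ax y), hone i hi, mul_one]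
        _ = _ := by rw [h2, mul_assoc, mul_comm (Localization.mk 1 _ : Ax y), hone j hj, mul_one]
    rw [← h3]
    ring
  obtain ⟨S, hS, -⟩ := TopCat.Sheaf.existsUnique_gluing'
    ⟨(Od n R ((1 : ℕ) : ℤ)).presheaf, (Od n R ((1 : ℕ) : ℤ)).isSheaf⟩ (fun i => chart i) ⊤
    (fun i => homOfLE le_top) (fun y _ => Opens.mem_iSup.2 (H11Ample.exists_mem_basicOpen_X (n := n) (R := R) y))
    σ (fun i j => sval_ext _ _ fun y => hagree i j y.1 y.2.1 y.2.2)
  obtain ⟨m, hm, rfl⟩ := H22Alg.PnSections.exists_globalSec S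
  obtain ⟨c, hc⟩ := exists_coeff_of_mem hm
  refine ⟨c, Scheme.Modules.hom_ext _ _ fun U => ConcreteCategory.hom_ext _ _ fun s => sval_ext _ _ fun y => ?_⟩
  obtain ⟨i, hi⟩ := H11Ample.exists_mem_basicOpen_X (n := n) (R := R) y.1
  let V : (P).Opens := U ⊓ chart i
  obtain ⟨r, hr⟩ := (bijective_smul_genNeg (R := R) i (inf_le_right : V ≤ chart i)).2
    ((Od n R (-1)).presheaf.map (homOfLE (inf_le_left : V ≤ U)).op s)
  have hr' : r • genNeg i (inf_le_right : V ≤ chart (R := R) i) =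
      (Od n R (-1)).presheaf.map (homOfLE (inf_le_left : V ≤ U)).op s := hr
  have h := congrArg (fun τ => sval (Gr n R) (Gr n R) τ (⟨y.1, ⟨y.2, hi⟩⟩ : V)) (congrArg (f.app V) hr')
  simp only [app_res, sval_map, Scheme.Modules.Hom.app_smul, sval_smul] at h
  have h0 : sval (Gr n R) (Gr n R) (f.app V ((Od n R (-1)).presheaf.map (homOfLE (inf_le_left : V ≤ U)).op s))
      (⟨y.1, ⟨y.2, hi⟩⟩ : V) = sval (Gr n R) (Gr n R) (f.app U s) y :=
    congrArg (fun τ => sval (Gr n R) (Gr n R) τ (⟨y.1, ⟨y.2, hi⟩⟩ : V)) (app_res f (inf_le_left : V ≤ U) s)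
  rw [← h0, ← h]
  have hs : sval (Gr n R) (Gr n R) s y =
      fval (Gr n R) r ⟨y.1, (⟨y.2, hi⟩ : y.1 ∈ V)⟩ * Localization.mk 1 ⟨X i, hi⟩ :=
    (congrArg (fun τ => sval (Gr n R) (Gr n R) τ (⟨y.1, ⟨y.2, hi⟩⟩ : V)) hr').symm
  simp only [app_sum_apply, sval_sum, sval_const_mulX, hs, smul_eq_mul]
  rw [← Finset.sum_mul]
  have hm' : sval (Gr n R) (Gr n R) (σ i) ⟨y.1, hi⟩ = (Localization.mk m 1 : Ax y.1) :=
    (congrArg (fun τ => sval (Gr n R) (Gr n R) τ (⟨y.1, hi⟩ : chart i)) (hS i)).symm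
  rw [show sval (Gr n R) (Gr n R) (σ i) ⟨y.1, hi⟩ = _ from hval i V inf_le_right ⟨y.1, ⟨y.2, hi⟩⟩, smul_eq_mul] at hm'
  have hone : (Localization.mk (X i) 1 * Localization.mk 1 ⟨X i, hi⟩ : Ax y.1) = 1 := by
    rw [Localization.mk_mul, one_mul, mul_one]
    exact Localization.mk_self (⟨X i, hi⟩ : primeC y.1)
  have hsum : (∑ l, Localization.mk (C (c l) * X l) 1 : Ax y.1) = Localization.mk m 1 := by
    simp only [Localization.mk_one_eq_algebraMap]
    rw [← map_sum, hc]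
  rw [hsum, ← hm']
  refine (mul_one _).symm.trans ((congrArg (_ * ·) hone.symm).trans ?_)
  ring

end Groth.Agent.H02CA.Euler
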