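import Groth.Agent.H02CA.Euler.Main
import Groth.Agent.H02CA.Euler.Matrix
import Groth.Agent.H02CA.Euler.LinForms
import Groth.Agent.H22Alg.PullVb
import Groth.Agent.H11Ample.RelAmple
import Groth.Agent.H10Coh.Stab.TwistInt
import Groth.Agent.H16Derived.KFlat.StalkTensor
import Groth.Agent.H29RR.PnPic

/-!
# The sheaf of differentials restricted to a linear subspace
-/

set_option autoImplicit false
set_option linter.style.haveILetI false
set_option backward.isDefEq.respectTransparency false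
set_option maxHeartbeats 1600000

universe u

open CategoryTheory CategoryTheory.Limits AlgebraicGeometry TopologicalSpace Opposite MvPolynomial
open Groth.Agent.H11Tilde Groth.Agent.H10Coh.Pn

namespace Groth.Agent.H02CA.Euler

variable {k : Type u} [Field k] {m N : ℕ}

local notation "toG" => Coh.toGlobal (toS m k)

/-- The matrix of a row of linear forms is onto if the forms generate. -/
theorem surjective_of_epi {a : ℕ} (A : (Fin a → k) →ₗ[k] (Fin (m + 1) → k))
    [Epi (mat toG (Od m k (-1)) A ≫ eulerπ (n := m) (R := k))] : Function.Surjective A := by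
  rw [← LinearMap.range_eq_top]
  by_contra hne
  obtain ⟨φ, hφ0, hφ⟩ := Submodule.exists_le_ker_of_lt_top _ (lt_top_iff_ne_top.2 hne)
  let v : Fin (m + 1) → k := fun j => φ (Pi.single j 1)
  have hv : v ≠ 0 := fun h => hφ0 (LinearMap.pi_ext' fun j => LinearMap.ext_ring (congrFun h j))
  obtain ⟨y, hy⟩ := exists_point_of_vec v hv
  let π := mat toG (Od m k (-1)) A ≫ eulerπ (n := m) (R := k)
  have hsurj : Function.Surjective ((TopCat.Presheaf.stalkFunctor AddCommGrpCat.{u} y).map π.mapPresheaf) := by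
    haveI := H10Coh.preservesFiniteColimits_toSheaf (Proj (Gr m k)).ringCatSheaf
    exact (TopCat.Presheaf.locally_surjective_iff_surjective_on_stalks π.mapPresheaf).1
      ((Sheaf.isLocallySurjective_iff_epi' (A := AddCommGrpCat.{u})
        ((SheafOfModules.toSheaf.{u} (Proj (Gr m k)).ringCatSheaf).map π)).2
          (inferInstanceAs (Epi ((SheafOfModules.toSheaf.{u} (Proj (Gr m k)).ringCatSheaf).map π)))) y
  let one0 : Γ(Od m k 0, ⊤) := secOf (Gr m k) (Gr m k) (SetLike.one_mem_graded (Gr m k))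
    (SetLike.one_mem_graded (Gr m k)) (fun x _ => one_notMem (Gr m k) x) (by simp)
  obtain ⟨z, hz⟩ := hsurj ((Od m k 0).presheaf.germ ⊤ y trivial one0)
  obtain ⟨W, hW, s, rfl⟩ := TopCat.Presheaf.exists_germ_eq _ z
  have hz' : (Od m k 0).presheaf.germ W y hW (π.app W s) = (Od m k 0).presheaf.germ ⊤ y trivial one0 :=
    (TopCat.Presheaf.stalkFunctor_map_germ_apply W y hW π.mapPresheaf s).symm.trans hz
  obtain ⟨W', hy', i1, i2, heq⟩ := TopCat.Presheaf.germ_eq (Od m k 0).presheaf (U := W) (V := ⊤) y hW trivial _ _ hz'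
  have hval := congrArg (fun t => sval (Gr m k) (Gr m k) t ⟨y, hy'⟩) heq
  simp only [sval_map] at hval
  have hdec : s = ∑ l, (Sigma.ι (fun _ : Fin a => Od m k (-1)) l).app W ((proj (fun _ : Fin a => Od m k (-1)) l).app W s) := by
    have h := congrArg (fun φ : (∐ fun _ : Fin a => Od m k (-1)) ⟶ _ => φ.app W s) (sum_proj_ι _)
    simp only [app_sum_apply] at h
    exact h.symm
  haveI := y.isPrime
  have hmem : sval (Gr m k) (Gr m k) (π.app W s) ⟨y, hW⟩ ∈
      IsLocalRing.maximalIdeal (Localization.AtPrime y.asHomogeneousIdeal.toIdeal) := by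
    rw [hdec, map_sum, sval_sum]
    refine Submodule.sum_mem _ fun l _ => ?_
    show sval _ _ ((Sigma.ι (fun _ : Fin a => Od m k (-1)) l ≫ π).app W _) _ ∈ _
    have hι : Sigma.ι (fun _ : Fin a => Od m k (-1)) l ≫ π =
        ∑ j, Formal.smulModΓ (Od m k (-1)) (toG (A (Pi.single l 1) j)) ≫ mulX j (-1) 0 rfl := by
      rw [← Category.assoc, ι_mat, Preadditive.sum_comp]
      simp only [Category.assoc, eulerπ, Sigma.ι_desc]
    rw [hι, app_sum_apply, sval_sum]
    simp only [sval_const_mulX, smul_eq_mul, ← Finset.sum_mul]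
    refine Ideal.mul_mem_right _ _ ?_
    simp only [Localization.mk_one_eq_algebraMap]
    rw [← map_sum]
    refine (IsLocalization.AtPrime.to_map_mem_maximal_iff _ y.asHomogeneousIdeal.toIdeal _).2 (hy _ ?_)
    have h0 : φ (A (Pi.single l 1)) = 0 := hφ ⟨_, rfl⟩
    rw [pi_eq_sum_univ' (A (Pi.single l 1)), map_sum] at h0
    simpa [v] using h0
  have hone : sval (Gr m k) (Gr m k) one0 ⟨y, trivial⟩ = (1 : Localization.AtPrime y.asHomogeneousIdeal.toIdeal) :=
    Localization.mk_self (⟨1, one_notMem (Gr m k) y⟩ : primeC y)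
  exact (IsLocalRing.maximalIdeal.isMaximal _).ne_top ((Ideal.eq_top_iff_one _).2 (hone ▸ hval ▸ hmem))

/-- The kernel of a generating row of linear forms. -/
theorem nonempty_kernel_iso {Ω : (Proj (Gr m k)).Modules} (d : OmegaSh.Der (CohB1.ProjSpace.toSpec m k) Ω)
    (hd : OmegaSh.IsUniversal d) {K : (Proj (Gr m k)).Modules} {a : ℕ}
    (ι : K ⟶ ∐ fun _ : Fin a => Od m k (-1)) (π : (∐ fun _ : Fin a => Od m k (-1)) ⟶ Od m k 0)
    (w : ι ≫ π = 0) (hS : (ShortComplex.mk ι π w).ShortExact) :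
    Nonempty (K ≅ Ω ⊞ ∐ fun _ : Fin (a - (m + 1)) => Od m k (-1)) := by
  haveI := hS.mono_f
  haveI := hS.epi_g
  haveI : Mono ι := hS.mono_f
  haveI : Epi π := hS.epi_g
  haveI : Mono (eulerι d hd) := mono_eulerι d hd
  have hE := shortExact_euler d hd
  haveI : Mono (eulerComplex d hd).f := hE.mono_f
  let g := toG
  let L := Od m k (-1)
  choose c hc using fun l : Fin a => exists_linForm (Sigma.ι (fun _ : Fin a => L) l ≫ π)
  let A : (Fin a → k) →ₗ[k] (Fin (m + 1) → k) := Fintype.linearCombination k c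
  have hA : mat g L A ≫ eulerπ = π := Sigma.hom_ext _ _ fun l => by
    rw [← Category.assoc, ι_mat, Preadditive.sum_comp, hc l]
    refine Finset.sum_congr rfl fun j _ => ?_
    rw [Category.assoc, eulerπ, Sigma.ι_desc]
    simp [A, g, L, Fintype.linearCombination_apply_single]
  haveI : Epi (mat g L A ≫ eulerπ) := by rw [hA]; infer_instance
  have hsurj : Function.Surjective A := surjective_of_epi A
  obtain ⟨B, hB⟩ := A.exists_rightInverse_of_surjective (LinearMap.range_eq_top.2 hsurj)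
  have hdim : Module.finrank k (LinearMap.ker A) = a - (m + 1) := by
    have h := LinearMap.finrank_range_add_finrank_ker A
    rw [LinearMap.range_eq_top.2 hsurj, finrank_top, Module.finrank_fin_fun, Module.finrank_fin_fun] at h
    omega
  let b := (Module.finBasisOfFinrankEq k (LinearMap.ker A) hdim).equivFun
  let R : (Fin a → k) →ₗ[k] (Fin (a - (m + 1)) → k) :=
    b.toLinearMap ∘ₗ ((LinearMap.id : (Fin a → k) →ₗ[k] (Fin a → k)) - B ∘ₗ A).codRestrict (LinearMap.ker A) (fun x => by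
      rw [LinearMap.mem_ker, LinearMap.sub_apply, map_sub, LinearMap.id_apply]
      exact sub_eq_zero.2 (LinearMap.congr_fun hB (A x)).symm)
  let J : (Fin (a - (m + 1)) → k) →ₗ[k] (Fin a → k) := (LinearMap.ker A).subtype ∘ₗ b.symm.toLinearMap
  have hJA : A ∘ₗ J = 0 := LinearMap.ext fun x => (b.symm x).2
  have hsum : B ∘ₗ A + J ∘ₗ R = LinearMap.id := LinearMap.ext fun x => by
    simp [J, R, LinearMap.codRestrict]
  have hRJ : R ∘ₗ J = LinearMap.id := LinearMap.ext fun x => b.symm.injective (Subtype.ext (by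
    have hx : A (b.symm x : Fin a → k) = 0 := (b.symm x).2
    simp [R, J, LinearMap.codRestrict, hx]))
  have hRB : R ∘ₗ B = 0 := LinearMap.ext fun x => b.symm.injective (Subtype.ext (by
    have hx : A (B x) = x := LinearMap.congr_fun hB x
    simp [R, LinearMap.codRestrict, hx]))
  have m1 : mat g L B ≫ mat g L A = 𝟙 _ := by rw [mat_comp, hB, mat_id]
  have m2 : mat g L J ≫ mat g L A = 0 := by rw [mat_comp, hJA, mat_zero]
  have m3 : mat g L J ≫ mat g L R = 𝟙 _ := by rw [mat_comp, hRJ, mat_id]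
  have m4 : mat g L B ≫ mat g L R = 0 := by rw [mat_comp, hRB, mat_zero]
  have m5 : mat g L A ≫ mat g L B + mat g L R ≫ mat g L J = 𝟙 _ := by
    rw [mat_comp, mat_comp, ← mat_add, hsum, mat_id]
  have hf : (ι ≫ mat g L A) ≫ eulerπ = 0 := by rw [Category.assoc, hA, w]
  let f : K ⟶ Ω ⊞ ∐ fun _ : Fin (a - (m + 1)) => L :=
    biprod.lift (hE.exact.lift (ι ≫ mat g L A) hf) (ι ≫ mat g L R)
  let ι' : (Ω ⊞ ∐ fun _ : Fin (a - (m + 1)) => L) ⟶ ∐ fun _ : Fin a => L :=
    biprod.desc (eulerι d hd ≫ mat g L B) (mat g L J)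
  have hι' : ι' ≫ π = 0 := biprod.hom_ext' _ _
    (by rw [biprod.inl_desc_assoc, comp_zero, ← hA, Category.assoc, reassoc_of% m1]; exact eulerι_π d hd)
    (by rw [biprod.inr_desc_assoc, comp_zero, ← hA, reassoc_of% m2, zero_comp])
  let f' : (Ω ⊞ ∐ fun _ : Fin (a - (m + 1)) => L) ⟶ K := hS.exact.lift ι' hι'
  have hf' : f' ≫ ι = ι' := hS.exact.lift_f ι' hι'
  have hlift : hE.exact.lift (ι ≫ mat g L A) hf ≫ eulerι d hd = ι ≫ mat g L A := hE.exact.lift_f _ hf
  have hι'A : ι' ≫ mat g L A = biprod.fst ≫ eulerι d hd := biprod.hom_ext' _ _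
    (by rw [biprod.inl_desc_assoc, Category.assoc, m1, Category.comp_id, biprod.inl_fst_assoc])
    (by rw [biprod.inr_desc_assoc, m2, biprod.inr_fst_assoc, zero_comp])
  have hι'R : ι' ≫ mat g L R = biprod.snd := biprod.hom_ext' _ _
    (by rw [biprod.inl_desc_assoc, Category.assoc, m4, comp_zero, biprod.inl_snd])
    (by rw [biprod.inr_desc_assoc, m3, biprod.inr_snd])
  refine ⟨⟨f, f', ?_, ?_⟩⟩
  · rw [← cancel_mono ι, Category.assoc, hf', Category.id_comp]
    show biprod.lift _ _ ≫ biprod.desc _ _ = ι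
    rw [biprod.lift_desc, reassoc_of% hlift, Category.assoc, ← Preadditive.comp_add, m5, Category.comp_id]
  · refine biprod.hom_ext _ _ ?_ ?_
    · rw [Category.assoc, biprod.lift_fst, Category.id_comp, ← cancel_mono (eulerι d hd), Category.assoc, hlift,
        reassoc_of% hf', hι'A]
    · rw [Category.assoc, biprod.lift_snd, Category.id_comp, reassoc_of% hf', hι'R]

/-- The pullback of `O(-1)` along a map pulling `O(1)` back to `O(1)`. -/
theorem nonempty_pullback_neg_one (i : CohB1.ProjSpace m k ⟶ CohB1.ProjSpace N k)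
    (e : (Scheme.Modules.pullback i).obj (Twist.twistProjSpace N k 1) ≅ Twist.twistProjSpace m k 1) :
    Nonempty ((Scheme.Modules.pullback i).obj (Twist.twistProjSpace N k (-1)) ≅ Twist.twistProjSpace m k (-1)) := by
  have hT := H10Coh.Stab.isTwistFamily_projSpace m k
  have hT' := H10Coh.Stab.isTwistFamily_projSpace N k
  obtain ⟨t'⟩ := hT'.add (-1) 1
  obtain ⟨z'⟩ := hT'.zero
  obtain ⟨t⟩ := hT.add 1 (-1)
  obtain ⟨z⟩ := hT.zero
  obtain ⟨p⟩ := H11Ample.exists_iso_pullback_tensor i (hT'.inv (-1)) (hT'.inv 1)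
  obtain ⟨u⟩ := H11Ample.nonempty_pullback_structureModule_iso i
  let a := (Scheme.Modules.pullback i).obj (Twist.twistProjSpace N k (-1))
  let h1 : CohB1.tensorMod a (Twist.twistProjSpace m k 1) ≅ Coh.structureModule _ :=
    PicGrp.tensorModIso (Iso.refl _) e.symm ≪≫ p.symm ≪≫ (Scheme.Modules.pullback i).mapIso
      (t' ≪≫ eqToIso (congrArg _ (neg_add_cancel (1 : ℤ))) ≪≫ z') ≪≫ u
  exact ⟨(SecTwist.unitorR a).symm ≪≫
    PicGrp.tensorModIso (Iso.refl a) (t ≪≫ eqToIso (congrArg _ (add_neg_cancel (1 : ℤ))) ≪≫ z).symm ≪≫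
    (H10Coh.Tw.assoc a _ _).symm ≪≫ PicGrp.tensorModIso h1 (Iso.refl _) ≪≫ H10Coh.Tw.leftUnitIso _⟩

/-- Restriction of the differentials. -/
theorem nonempty_pullback_omega_iso [QuasiSeparated (CohB1.ProjSpace.toSpec N k)]
    [QuasiSeparated (CohB1.ProjSpace.toSpec m k)] (i : CohB1.ProjSpace m k ⟶ CohB1.ProjSpace N k)
    (hO : Nonempty ((Scheme.Modules.pullback i).obj (Twist.twistProjSpace N k 1) ≅ Twist.twistProjSpace m k 1)) :
    Nonempty ((Scheme.Modules.pullback i).obj (Omega.sheaf (CohB1.ProjSpace.toSpec N k)) ≅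
      Omega.sheaf (CohB1.ProjSpace.toSpec m k) ⊞ ∐ fun _ : Fin (N - m) => Twist.twistProjSpace m k (-1)) := by
  obtain ⟨e⟩ := hO
  obtain ⟨e₁⟩ := nonempty_pullback_neg_one i e
  obtain ⟨z'⟩ := (H10Coh.Stab.isTwistFamily_projSpace N k).zero
  obtain ⟨z⟩ := (H10Coh.Stab.isTwistFamily_projSpace m k).zero
  obtain ⟨u⟩ := H11Ample.nonempty_pullback_structureModule_iso i
  haveI : PreservesColimitsOfSize.{0, 0} (Scheme.Modules.pullback i) :=
    (Scheme.Modules.pullbackPushforwardAdjunction i).leftAdjoint_preservesColimits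
  let eσ : (Scheme.Modules.pullback i).obj (∐ fun _ : Fin (N + 1) => Twist.twistProjSpace N k (-1)) ≅
      ∐ fun _ : Fin (N + 1) => Od m k (-1) :=
    PreservesCoproduct.iso (Scheme.Modules.pullback i) _ ≪≫ Sigma.mapIso fun _ => e₁
  let e₀ : (Scheme.Modules.pullback i).obj (Twist.twistProjSpace N k 0) ≅ Od m k 0 :=
    (Scheme.Modules.pullback i).mapIso z' ≪≫ u ≪≫ z.symm
  have hP : ((eulerSeq N k).map (Scheme.Modules.pullback i)).ShortExact :=
    H22Alg.KModel.shortExact_pullback i (eulerSeq_shortExact N k)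
      (H28Pinch.isFinLocFree_of_isInvertible ((H10Coh.Stab.isTwistFamily_projSpace N k).inv 0))
  let S' : ShortComplex (Proj (Gr m k)).Modules :=
    ShortComplex.mk ((Scheme.Modules.pullback i).map (eulerSeq N k).f ≫ eσ.hom)
      (eσ.inv ≫ (Scheme.Modules.pullback i).map (eulerSeq N k).g ≫ e₀.hom) (by
      rw [Category.assoc, eσ.hom_inv_id_assoc, ← Functor.map_comp_assoc, (eulerSeq N k).zero, Functor.map_zero,
        zero_comp])
  have hS' : S'.ShortExact :=
    ShortComplex.shortExact_of_iso (S₁ := (eulerSeq N k).map (Scheme.Modules.pullback i)) (S₂ := S')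
      (ShortComplex.isoMk (Iso.refl _) eσ e₀ (by simp [S']) (by simp [S'])) hP
  obtain ⟨j⟩ := nonempty_kernel_iso (OmegaSh.dOmega (CohB1.ProjSpace.toSpec m k))
    (H17.PrinOmega.isUniversal_dOmega _) S'.f S'.g S'.zero hS'
  exact ⟨j ≪≫ biprod.mapIso (Iso.refl _) (Sigma.whiskerEquiv (f := fun _ => Od m k (-1)) (g := fun _ => Twist.twistProjSpace m k (-1))
    (finCongr (show N + 1 - (m + 1) = N - m by omega)) fun _ => Iso.refl (Od m k (-1)))⟩

end Groth.Agent.H02CA.Euler
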