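import Groth.Agent.H02CA.Euler.Deriv
import Groth.Agent.H29Omega.StalkKaehler
import Groth.Agent.H11Tilde.ModLoc

/-!
On the chart `D₊(X i)` the differentials of the ratios `X j / X i` span the differentials.
-/

set_option autoImplicit false
set_option backward.isDefEq.respectTransparency false

universe u

open CategoryTheory CategoryTheory.Limits AlgebraicGeometry TopologicalSpace Opposite MvPolynomial
open Groth.Agent.H11Tilde Groth.Agent.H10Coh.Pn

namespace Groth.Agent.H02CA.Euler

variable {n : ℕ} {R : Type u} [CommRing R]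

local notation "P" => Proj (Gr n R)
local notation "Ax" x => GrTwist.Loc (Gr n R) x

theorem eval₂_scale' {σ A B : Type*} [CommRing A] [CommRing B] (g : A →+* B) (r : σ → B) (c : B)
    {d : ℕ} {Q : MvPolynomial σ A} (hQ : Q.IsHomogeneous d) :
    eval₂Hom g (fun l => c * r l) Q = c ^ d * eval₂Hom g r Q := by
  classical
  rw [Q.as_sum, map_sum, map_sum, Finset.mul_sum]
  refine Finset.sum_congr rfl fun e he => ?_
  have hd : e.support.sum (fun l => e l) = d := by
    have := hQ (MvPolynomial.mem_support_iff.1 he)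
    simpa [Finsupp.weight_apply, Finsupp.sum] using this
  simp only [eval₂Hom_monomial, Finsupp.prod, mul_pow, Finset.prod_mul_distrib, Finset.prod_pow_eq_pow_sum, hd]
  ring

/-- The standard open `D₊(X i)`. -/
noncomputable abbrev chart (i : Fin (n + 1)) : (P).Opens := Proj.basicOpen (Gr n R) (X i)

theorem X_mem (i : Fin (n + 1)) : (X i : MvPolynomial (Fin (n + 1)) R) ∈ Gr n R 1 := isHomogeneous_X R i

/-- The ratio `X j / X i`. -/
noncomputable def tt (i j : Fin (n + 1)) : Γ(P, chart (R := R) i) :=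
  ratio (Gr n R) (X_mem i) (X_mem j)

theorem fval_tt (i j : Fin (n + 1)) (x : chart (R := R) i) :
    fval (Gr n R) (tt i j) x = Localization.mk (X j) ⟨X i, x.2⟩ :=
  (fval_ratio (Gr n R) (X_mem i) (X_mem j) x).trans
    (congrArg (Localization.mk _) (Subtype.ext (pow_one _)))

/-- Constants on the chart. -/
noncomputable def cst (i : Fin (n + 1)) : R →+* Γ(P, chart (R := R) i) :=
  ((P).presheaf.map (homOfLE (le_top : chart (R := R) i ≤ ⊤)).op).hom.comp (Coh.toGlobal (toS n R))

theorem fval_cst (i : Fin (n + 1)) (r : R) (x : chart (R := R) i) :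
    fval (Gr n R) (cst i r) x = Localization.mk (C r) 1 :=
  fval_constΓ (X_mem i) Nat.one_pos r x

/-- Dehomogenisation. -/
noncomputable def dehom (i : Fin (n + 1)) : MvPolynomial (Fin (n + 1)) R →+* Γ(P, chart (R := R) i) :=
  eval₂Hom (cst i) (tt i)

theorem fval_dehom {d : ℕ} {a : MvPolynomial (Fin (n + 1)) R} (ha : a.IsHomogeneous d) (i : Fin (n + 1))
    (x : chart (R := R) i) :
    fval (Gr n R) (dehom i a) x = Localization.mk a ⟨X i ^ d, pow_notMem (Gr n R) x.2 d⟩ := by
  have h1 : (fvalHom (V := chart i) x).comp (dehom i) =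
      eval₂Hom ((algebraMap (MvPolynomial (Fin (n + 1)) R) (Ax x.1)).comp C)
        (fun j => Localization.mk (X j) ⟨X i, x.2⟩) := by
    refine MvPolynomial.ringHom_ext (fun r => ?_) (fun j => ?_)
    · show fval (Gr n R) (dehom i (C r)) x = _
      rw [dehom, eval₂Hom_C, eval₂Hom_C, fval_cst, RingHom.comp_apply, Localization.mk_one_eq_algebraMap]
    · show fval (Gr n R) (dehom i (X j)) x = _
      rw [dehom, eval₂Hom_X', eval₂Hom_X', fval_tt]
  have h2 : fval (Gr n R) (dehom i a) x = eval₂Hom ((algebraMap (MvPolynomial (Fin (n + 1)) R) (Ax x.1)).comp C)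
        (fun j => Localization.mk (X j) ⟨X i, x.2⟩) a := RingHom.congr_fun h1 a
  rw [h2]
  let u : Ax x.1 := Localization.mk 1 ⟨X i, x.2⟩
  have hXu : ∀ j, (Localization.mk (X j) ⟨X i, x.2⟩ : Ax x.1) = u * algebraMap _ (Ax x.1) (X j) := fun j => by
    rw [← Localization.mk_one_eq_algebraMap, Localization.mk_mul, one_mul, mul_one]
  simp only [hXu]
  rw [eval₂_scale' _ _ u ha]
  have h3 : eval₂Hom ((algebraMap (MvPolynomial (Fin (n + 1)) R) (Ax x.1)).comp C)
      (fun j => algebraMap (MvPolynomial (Fin (n + 1)) R) (Ax x.1) (X j)) = algebraMap (MvPolynomial (Fin (n + 1)) R) (Ax x.1) :=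
    MvPolynomial.ringHom_ext (fun r => by simp) (fun j => by simp)
  rw [RingHom.congr_fun h3, Localization.mk_pow, one_pow, ← Localization.mk_one_eq_algebraMap,
    Localization.mk_mul, one_mul, mul_one]
  exact congrArg (Localization.mk a) (Subtype.ext (SubmonoidClass.coe_pow _ _))

variable {Ω : (Proj (Gr n R)).Modules} (d : OmegaSh.Der (CohB1.ProjSpace.toSpec n R) Ω)

theorem d_cst (i : Fin (n + 1)) (r : R) : d.app (chart i) (cst i r) = 0 := by
  show d.d (X := op (chart i)) (((P).presheaf.map (homOfLE (le_top : chart (R := R) i ≤ ⊤)).op).hom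
    (Coh.toGlobal (toS n R) r)) = 0
  erw [d.d_map (homOfLE (le_top : chart (R := R) i ≤ ⊤)).op]
  have h0 : d.d (X := op (⊤ : (P).Opens)) (Coh.toGlobal (toS n R) r) = 0 :=
    d.d_app (X := op (⊤ : (Spec (CommRingCat.of R)).Opens)) _
  erw [h0]
  exact map_zero _

/-- The span of the germs of the differentials of the ratios. -/
noncomputable def chartSpan (i : Fin (n + 1)) (x : chart (R := R) i) :
    Submodule ((P).presheaf.stalk x.1) (Ω.presheaf.stalk x.1) :=
  Submodule.span _ (Set.range fun j => Ω.presheaf.germ (chart i) x.1 x.2 (d.app _ (tt i j)))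

theorem germ_d_dehom_mem (i : Fin (n + 1)) (x : chart (R := R) i) (a : MvPolynomial (Fin (n + 1)) R) :
    Ω.presheaf.germ (chart i) x.1 x.2 (d.app _ (dehom i a)) ∈ chartSpan d i x := by
  induction a using MvPolynomial.induction_on with
  | C r => rw [dehom, eval₂Hom_C, d_cst, map_zero]; exact zero_mem _
  | add p q hp hq => rw [map_add, map_add, map_add]; exact add_mem hp hq
  | mul_X p j hp =>
    rw [map_mul, show dehom i (X j) = tt i j from eval₂Hom_X' _ _ _]
    erw [d.d_mul, map_add, H06Mod.germ_smul, H06Mod.germ_smul]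
    exact add_mem (Submodule.smul_mem _ _ (Submodule.subset_span ⟨j, rfl⟩)) (Submodule.smul_mem _ _ hp)

theorem germ_d_mem {V : (P).Opens} (i : Fin (n + 1)) (x : chart (R := R) i) (hxV : x.1 ∈ V) (r : Γ(P, V)) :
    Ω.presheaf.germ V x.1 hxV (d.app V r) ∈ chartSpan d i x := by
  obtain ⟨W, hxW, hW, e, a, s, ha, hs, hnin, hv⟩ := exists_local V r ⟨x.1, hxV⟩
  let W' : (P).Opens := W ⊓ chart i
  have hxW' : x.1 ∈ W' := ⟨hxW, x.2⟩
  let ρ := (P).presheaf.map (homOfLE (inf_le_right : W' ≤ chart i)).op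
  let r' := (P).presheaf.map (homOfLE (inf_le_left.trans hW : W' ≤ V)).op r
  have hrs : r' * ρ (dehom i s) = ρ (dehom i a) := by
    refine fval_ext _ fun y => ?_
    rw [fval_mul, fval_map, fval_map, fval_map, fval_dehom ha, fval_dehom hs, hv ⟨y.1, y.2.1⟩, Localization.mk_mul]
    refine Localization.mk_eq_mk_iff.2 (Localization.r_iff_exists.2 ⟨1, ?_⟩)
    simp only [OneMemClass.coe_one, one_mul, Submonoid.coe_mul]
    ring
  let g := (P).presheaf.germ W' x.1 hxW'
  have hu : IsUnit (g (ρ (dehom i s))) := by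
    let inv : Γ(P, W') :=
      show GrTwist.O (𝒜 := Gr n R) (op W') from
      ⟨fun y => HomogeneousLocalization.mk ⟨e, ⟨X i ^ e, by simpa using SetLike.pow_mem_graded e (X_mem (R := R) i)⟩,
          ⟨s, hs⟩, hnin y.1 y.2.1⟩,
        fun y => ⟨W', y.2, 𝟙 _, e, ⟨X i ^ e, by simpa using SetLike.pow_mem_graded e (X_mem (R := R) i)⟩,
          ⟨s, hs⟩, fun z => hnin z.1 z.2.1, fun z => rfl⟩⟩
    refine IsUnit.of_mul_eq_one (g inv) ((map_mul _ _ _).symm.trans ((congrArg g ?_).trans (map_one _)))
    refine fval_ext _ fun y => ?_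
    rw [fval_mul, fval_map, fval_dehom hs, fval_one,
      show fval (Gr n R) inv y = Localization.mk (X i ^ e) ⟨s, hnin y.1 y.2.1⟩ from HomogeneousLocalization.val_mk _,
      Localization.mk_mul, ← Localization.mk_one]
    refine Localization.mk_eq_mk_iff.2 (Localization.r_iff_exists.2 ⟨1, ?_⟩)
    simp only [OneMemClass.coe_one, one_mul, Submonoid.coe_mul]
    ring
  have hres : ∀ b, Ω.presheaf.germ W' x.1 hxW' (d.app W' (ρ (dehom i b))) ∈ chartSpan d i x := fun b => by
    erw [d.d_map]
    erw [TopCat.Presheaf.germ_res_apply]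
    exact germ_d_dehom_mem d i x b
  have h := hres a
  rw [← hrs] at h
  erw [d.d_mul, map_add, H06Mod.germ_smul, H06Mod.germ_smul] at h
  have h' : g (ρ (dehom i s)) • Ω.presheaf.germ W' x.1 hxW' (d.app W' r') ∈ chartSpan d i x :=
    (Submodule.add_mem_iff_right _ (Submodule.smul_mem _ _ (hres s))).1 h
  rw [Submodule.smul_mem_iff_of_isUnit _ hu] at h'
  erw [d.d_map, TopCat.Presheaf.germ_res_apply] at h'
  exact h'

theorem chartSpan_eq_top (hd : OmegaSh.IsUniversal d) (i : Fin (n + 1)) (x : chart (R := R) i) :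
    chartSpan d i x = ⊤ := by
  obtain ⟨e, he⟩ := H29Omega.exists_stalkEquiv d hd x.1
  refine Submodule.map_injective_of_injective (f := e.toLinearMap) e.injective ?_
  rw [Submodule.map_top, LinearEquiv.range, eq_top_iff, ← KaehlerDifferential.span_range_derivation, Submodule.span_le]
  rintro _ ⟨g, rfl⟩
  obtain ⟨U, hU, r, rfl⟩ := (P).presheaf.exists_germ_eq g
  exact ⟨_, germ_d_mem d i x hU r, he U hU r⟩

end Groth.Agent.H02CA.Euler
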