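import Groth.Agent.H02CA.Euler.Partial
import Groth.Agent.H10Coh.Pn.Global
import Groth.Agent.H11Tilde.GammaStar.Ratio
import Groth.Agent.H11Ample.ToPn
import Groth.Prelude.Def_Omega3
import Groth.Prelude.Def_GrMod3

/-!
The partial derivatives as derivations `O → O(-1)` on projective space.
-/

set_option autoImplicit false
set_option backward.isDefEq.respectTransparency false

universe u

open CategoryTheory CategoryTheory.Limits AlgebraicGeometry TopologicalSpace Opposite MvPolynomial
open Groth.Agent.H11Tilde Groth.Agent.H10Coh.Pn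

namespace Groth.Agent.H02CA.Euler

variable {n : ℕ} {R : Type u} [CommRing R]

local notation "P" => Proj (Gr n R)
local notation "Ax" x => GrTwist.Loc (Gr n R) x

/-- The submonoid of a point. -/
noncomputable abbrev primeC (x : ProjectiveSpectrum (Gr n R)) : Submonoid (MvPolynomial (Fin (n + 1)) R) :=
  x.asHomogeneousIdeal.toIdeal.primeCompl

/-- The partial derivative at a point. -/
noncomputable abbrev dAt (x : ProjectiveSpectrum (Gr n R)) (l : Fin (n + 1)) (z : Ax x) : Ax x :=
  partialAt (primeC x) l z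

theorem exists_local (U : (P).Opens) (r : Γ(P, U)) (x : U) :
    ∃ (W : (P).Opens) (_ : x.1 ∈ W) (hW : W ≤ U) (d : ℕ) (a s : MvPolynomial (Fin (n + 1)) R)
      (_ : a.IsHomogeneous d) (_ : s.IsHomogeneous d) (hs : ∀ y ∈ W, s ∉ y.asHomogeneousIdeal),
      ∀ y : W, fval (Gr n R) r ⟨y.1, hW y.2⟩ = Localization.mk a ⟨s, hs y.1 y.2⟩ := by
  obtain ⟨W, hxW, iW, d, ⟨a, ha⟩, ⟨s, hs⟩, hnin, hw⟩ := (show GrTwist.O (𝒜 := Gr n R) (op U) from r).2 x
  refine ⟨W, hxW, iW.le, d, a, s, ha, hs, fun y hy => hnin ⟨y, hy⟩, fun y => ?_⟩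
  exact (congrArg HomogeneousLocalization.val (hw y)).trans (HomogeneousLocalization.val_mk _)

theorem dAt_mk (x : ProjectiveSpectrum (Gr n R)) (l : Fin (n + 1)) (a : MvPolynomial (Fin (n + 1)) R)
    (s : primeC x) :
    dAt x l (Localization.mk a s) =
      Localization.mk ((s : MvPolynomial (Fin (n + 1)) R) * pderiv l a - a * pderiv l (s : MvPolynomial (Fin (n + 1)) R)) (s * s) := by
  rw [Localization.mk_eq_mk', dAt, partialAt_mk']

theorem dAt_mem (x : ProjectiveSpectrum (Gr n R)) (l : Fin (n + 1)) {d : ℕ}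
    {a s : MvPolynomial (Fin (n + 1)) R} (ha : a.IsHomogeneous d) (hs : s.IsHomogeneous d)
    (hsx : s ∉ x.asHomogeneousIdeal) :
    (show GrMod.LocMod (Gr n R) (M := MvPolynomial (Fin (n + 1)) R) x from dAt x l (Localization.mk a ⟨s, hsx⟩)) ∈
      GrMod.tildeAt (Gr n R) (Gr n R) (-1) x := by
  rw [dAt_mk]
  rcases Nat.eq_zero_or_pos d with rfl | hd
  · have h : ((s * pderiv l a - a * pderiv l s : MvPolynomial (Fin (n + 1)) R)) = 0 := by
      rw [totalDegree_eq_zero_iff_eq_C.1 ((totalDegree_zero_iff_isHomogeneous (Fin (n + 1))).2 ha),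
        totalDegree_eq_zero_iff_eq_C.1 ((totalDegree_zero_iff_isHomogeneous (Fin (n + 1))).2 hs)]
      simp
    rw [h, Localization.mk_zero]
    exact zero_mem _
  · refine Submodule.subset_span ⟨d + d - 1, d + d, ⟨_, isHomogeneous_num ha hs l⟩, ⟨s * s, hs.mul hs⟩,
      fun h => hsx ((x.isPrime.mem_or_mem h).elim id id), by omega, rfl⟩

/-- The partial derivative of a function, as a section of `O(-1)`. -/
noncomputable def partialFun (l : Fin (n + 1)) (U : (P).Opens) (r : Γ(P, U)) : Γ(Od n R (-1), U) :=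
  show GrMod.sect (Gr n R) (Gr n R) (-1) (op U) from
  ⟨fun x => ⟨dAt x.1 l (fval (Gr n R) r x), by
      obtain ⟨W, hxW, hW, d, a, s, ha, hs, hnin, hv⟩ := exists_local U r x
      rw [show fval (Gr n R) r x = _ from hv ⟨x.1, hxW⟩]
      exact dAt_mem x.1 l ha hs _⟩,
    fun x => by
      obtain ⟨W, hxW, hW, d, a, s, ha, hs, hnin, hv⟩ := exists_local U r x
      refine ⟨W, hxW, homOfLE hW, d + d - 1, d + d, ⟨_, isHomogeneous_num ha hs l⟩, ⟨s * s, hs.mul hs⟩,
        fun y h => hnin y.1 y.2 ((y.1.isPrime.mem_or_mem h).elim id id), ?_, fun y => ?_⟩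
      · rcases Nat.eq_zero_or_pos d with rfl | hd
        · refine Or.inr ?_
          show s * pderiv l a - a * pderiv l s = 0
          rw [totalDegree_eq_zero_iff_eq_C.1 ((totalDegree_zero_iff_isHomogeneous (Fin (n + 1))).2 ha),
            totalDegree_eq_zero_iff_eq_C.1 ((totalDegree_zero_iff_isHomogeneous (Fin (n + 1))).2 hs)]
          simp
        · exact Or.inl (by omega)
      · show dAt y.1 l (fval (Gr n R) r ⟨y.1, hW y.2⟩) = _
        rw [hv y, dAt_mk]
        rfl⟩

theorem sval_partialFun (l : Fin (n + 1)) (U : (P).Opens) (r : Γ(P, U)) (x : U) :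
    sval (Gr n R) (Gr n R) (partialFun l U r) x = dAt x.1 l (fval (Gr n R) r x) := rfl

theorem partialFun_add (l : Fin (n + 1)) (U : (P).Opens) (r r' : Γ(P, U)) :
    partialFun l U (r + r') = partialFun l U r + partialFun l U r' := by
  refine sval_ext _ _ fun x => ?_
  rw [sval_partialFun, fval_add, sval_add', sval_partialFun, sval_partialFun]
  exact partialAt_add _ _ _ _

theorem partialFun_mul (l : Fin (n + 1)) (U : (P).Opens) (r r' : Γ(P, U)) :
    partialFun l U (r * r') = r • partialFun l U r' + r' • partialFun l U r := by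
  refine sval_ext _ _ fun x => ?_
  rw [sval_partialFun, fval_mul, sval_add', sval_smul, sval_smul, sval_partialFun, sval_partialFun]
  exact partialAt_mul _ _ _ _

theorem partialFun_map (l : Fin (n + 1)) {U V : (P).Opens} (h : V ≤ U) (r : Γ(P, U)) :
    partialFun l V ((P).presheaf.map (homOfLE h).op r) = (Od n R (-1)).presheaf.map (homOfLE h).op (partialFun l U r) := by
  refine sval_ext _ _ fun x => ?_
  rw [sval_partialFun, fval_map, sval_map, sval_partialFun]

theorem dAt_C (x : ProjectiveSpectrum (Gr n R)) (l : Fin (n + 1)) (c : R) :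
    dAt x l (Localization.mk (C c) 1) = 0 := by
  rw [Localization.mk_one_eq_algebraMap, dAt, partialAt_algebraMap, pderiv_C, map_zero]

theorem isLocalization_away_Spec (s : R) (D : (Spec (CommRingCat.of R)).Opens) (hD : D = PrimeSpectrum.basicOpen s) :
    letI : Algebra R Γ(Spec (CommRingCat.of R), D) :=
      (((Spec (CommRingCat.of R)).presheaf.map (homOfLE (le_top : D ≤ ⊤)).op).hom.comp
        (Scheme.ΓSpecIso (CommRingCat.of R)).inv.hom).toAlgebra
    IsLocalization.Away s Γ(Spec (CommRingCat.of R), D) := by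
  subst hD
  convert StructureSheaf.IsLocalization.to_basicOpen R s using 1
  · rfl
  · exact Algebra.algebra_ext _ _ fun r =>
      (ConcreteCategory.congr_hom (Scheme.toOpen_eq (CommRingCat.of R) (PrimeSpectrum.basicOpen s)) r).symm

/-- Evaluation at a point, as a ring map. -/
noncomputable def fvalHom {V : (P).Opens} (x : V) : Γ(P, V) →+* (Ax x.1) where
  toFun r := fval (Gr n R) r x
  map_one' := fval_one _ x
  map_mul' r r' := fval_mul _ r r' x
  map_zero' := fval_zero _ x
  map_add' r r' := fval_add _ r r' x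

/-- The value at a point of a function pulled back from the base. -/
theorem exists_const_frac (U : (Spec (CommRingCat.of R)).Opens) (c : Γ(Spec (CommRingCat.of R), U))
    (x : P) (hx : x ∈ CohB1.ProjSpace.toSpec n R ⁻¹ᵁ U) :
    ∃ (a b : R), IsUnit (Localization.mk (C b) 1 : Ax x) ∧
      fval (Gr n R) ((CohB1.ProjSpace.toSpec n R).app U c) ⟨x, hx⟩ * Localization.mk (C b) 1 =
        Localization.mk (C a) 1 := by
  let f := CohB1.ProjSpace.toSpec n R
  obtain ⟨W, ⟨s, rfl⟩, hxW, hWU⟩ :=
    PrimeSpectrum.isTopologicalBasis_basic_opens.exists_subset_of_mem_open (show f x ∈ (U : Set _) from hx) U.2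
  obtain ⟨D, hD⟩ : ∃ D : (Spec (CommRingCat.of R)).Opens, D = PrimeSpectrum.basicOpen s := ⟨_, rfl⟩
  letI : Algebra R Γ(Spec (CommRingCat.of R), D) :=
    (((Spec (CommRingCat.of R)).presheaf.map (homOfLE (le_top : D ≤ ⊤)).op).hom.comp
      (Scheme.ΓSpecIso (CommRingCat.of R)).inv.hom).toAlgebra
  haveI : IsLocalization.Away s Γ(Spec (CommRingCat.of R), D) := isLocalization_away_Spec s D hD
  obtain ⟨⟨a, ⟨b, k, rfl⟩⟩, hab⟩ := IsLocalization.surj (Submonoid.powers s)
    ((Spec (CommRingCat.of R)).presheaf.map (homOfLE (show D ≤ U from hD ▸ hWU)).op c)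
  -- the values of the constants
  obtain ⟨i, hi⟩ := H11Ample.exists_mem_basicOpen_X (n := n) (R := R) x
  let V : (P).Opens := f ⁻¹ᵁ D ⊓ Proj.basicOpen (Gr n R) (X i)
  have hxV : x ∈ V := ⟨show f x ∈ D from hD ▸ hxW, hi⟩
  let φ : Γ(Spec (CommRingCat.of R), D) →+* (Ax x) :=
    (fvalHom (V := V) ⟨x, hxV⟩).comp ((f.appLE D V inf_le_left).hom)
  have hconst : ∀ r : R, φ (algebraMap R Γ(Spec (CommRingCat.of R), D) r) = Localization.mk (C r) 1 := by
    intro r
    refine Eq.trans ?_ (fval_constΓ (show (X i : MvPolynomial (Fin (n + 1)) R) ∈ Gr n R 1 from isHomogeneous_X R i)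
      Nat.one_pos r ⟨x, hi⟩)
    show fval (Gr n R) (f.appLE D V inf_le_left (algebraMap R _ r)) ⟨x, hxV⟩ = _
    have h1 : algebraMap R Γ(Spec (CommRingCat.of R), D) r = (Spec (CommRingCat.of R)).presheaf.map
        (homOfLE (le_top : D ≤ ⊤)).op ((Scheme.ΓSpecIso (CommRingCat.of R)).inv r) := rfl
    rw [h1, ← CommRingCat.comp_apply, Scheme.Hom.map_appLE]
    show fval (Gr n R) ((f.app ⊤ ≫ (P).presheaf.map (homOfLE (le_top : V ≤ ⊤)).op) _) _ = _
    rw [CommRingCat.comp_apply]
    rfl
  have hφc : φ ((Spec (CommRingCat.of R)).presheaf.map (homOfLE (show D ≤ U from hD ▸ hWU)).op c) =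
      fval (Gr n R) (f.app U c) ⟨x, hx⟩ := by
    show fval (Gr n R) (f.appLE D V inf_le_left ((Spec (CommRingCat.of R)).presheaf.map _ c)) ⟨x, hxV⟩ = _
    rw [← CommRingCat.comp_apply, Scheme.Hom.map_appLE]
    rfl
  refine ⟨a, s ^ k, ?_, ?_⟩
  · rw [← hconst]
    exact (IsLocalization.map_units Γ(Spec (CommRingCat.of R), D) (⟨s ^ k, k, rfl⟩ : Submonoid.powers s)).map φ
  · have := congrArg φ hab
    rw [map_mul, hconst, hconst, hφc] at this
    exact this

/-- The derivation `∂/∂X_l`. -/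
noncomputable def partialDer (l : Fin (n + 1)) : OmegaSh.Der (CohB1.ProjSpace.toSpec n R) (Od n R (-1)) where
  d {U} := AddMonoidHom.mk' (partialFun l U.unop) (partialFun_add l U.unop)
  d_mul {U} a b := partialFun_mul l U.unop a b
  d_map {U V} g x := partialFun_map l g.unop.le x
  d_app {U} c := by
    refine sval_ext _ _ fun x => ?_
    show dAt x.1 l (fval (Gr n R) ((CohB1.ProjSpace.toSpec n R).app U.unop c) x) = 0
    obtain ⟨a, b, hb, hab⟩ := exists_const_frac U.unop c x.1 x.2
    refine (hb.mul_left_eq_zero).1 ?_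
    have h := congrArg (dAt x.1 l) hab
    rw [show ∀ y z, dAt x.1 l (y * z) = y * dAt x.1 l z + z * dAt x.1 l y from partialAt_mul (primeC x.1) l] at h
    rw [dAt_C x.1 l b, dAt_C x.1 l a, mul_zero, zero_add] at h
    rw [mul_comm]
    exact h

theorem sval_partialDer (l : Fin (n + 1)) (U : (P).Opens) (r : Γ(P, U)) (x : U) :
    sval (Gr n R) (Gr n R) ((partialDer l).app U r) x = dAt x.1 l (fval (Gr n R) r x) := rfl

end Groth.Agent.H02CA.Euler
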