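import Groth.Agent.H02CA.Euler.Sequence
import Groth.Agent.H17.PrinOmega
import Groth.Agent.H11Proj.ProjSpace

/-!
The Euler sequence for the sheaf of differentials of projective space over a ring.
-/

set_option autoImplicit false

universe u

open CategoryTheory CategoryTheory.Limits AlgebraicGeometry

namespace Groth.Agent.H02CA.Euler

/-- `0 → Ω → O(-1)^(n+1) → O(0) → 0`. -/
noncomputable def eulerSeq (n : ℕ) (R : Type u) [CommRing R] [QuasiSeparated (CohB1.ProjSpace.toSpec n R)] :
    ShortComplex (CohB1.ProjSpace n R).Modules :=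
  eulerComplex (OmegaSh.dOmega (CohB1.ProjSpace.toSpec n R)) (H17.PrinOmega.isUniversal_dOmega _)

theorem eulerSeq_shortExact (n : ℕ) (R : Type u) [CommRing R] [QuasiSeparated (CohB1.ProjSpace.toSpec n R)] :
    (eulerSeq n R).ShortExact :=
  shortExact_euler _ _

theorem eulerSeq_X₁ (n : ℕ) (R : Type u) [CommRing R] [QuasiSeparated (CohB1.ProjSpace.toSpec n R)] :
    (eulerSeq n R).X₁ = Omega.sheaf (CohB1.ProjSpace.toSpec n R) := rfl

theorem eulerSeq_X₂ (n : ℕ) (R : Type u) [CommRing R] [QuasiSeparated (CohB1.ProjSpace.toSpec n R)] :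
    (eulerSeq n R).X₂ = ∐ fun _ : Fin (n + 1) => Twist.twistProjSpace n R (-1) := rfl

theorem eulerSeq_X₃ (n : ℕ) (R : Type u) [CommRing R] [QuasiSeparated (CohB1.ProjSpace.toSpec n R)] :
    (eulerSeq n R).X₃ = Twist.twistProjSpace n R 0 := rfl

end Groth.Agent.H02CA.Euler
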