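import Mathlib.RingTheory.MvPolynomial.Homogeneous
import Mathlib.RingTheory.Localization.AtPrime.Basic
import Mathlib.Algebra.TrivSqZeroExt.Basic
import Mathlib.Algebra.MvPolynomial.PDeriv
import Mathlib.RingTheory.MvPolynomial.EulerIdentity
import Mathlib.Tactic.LinearCombination
import Mathlib.Tactic.Ring

/-!
Partial derivatives of fractions of polynomials.
-/

set_option autoImplicit false

universe u v

open MvPolynomial TrivSqZeroExt

namespace Groth.Agent.H02CA.Euler

variable {σ : Type v} {R : Type u} [CommRing R] {S : Submonoid (MvPolynomial σ R)} {L : Type*}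
  [CommRing L] [Algebra (MvPolynomial σ R) L]

/-- A polynomial with its derivative, in the dual numbers of `L`. -/
noncomputable def jet (l : σ) : MvPolynomial σ R →+* TrivSqZeroExt L L where
  toFun f := inl (algebraMap (MvPolynomial σ R) L f) + inr (algebraMap (MvPolynomial σ R) L (pderiv l f))
  map_one' := by ext <;> simp
  map_mul' f g := by
    ext <;> simp [pderiv_mul, fst_mul, snd_mul, mul_comm]
  map_zero' := by ext <;> simp
  map_add' f g := by ext <;> simp

variable (S) [IsLocalization S L]

theorem isUnit_jet (l : σ) (s : S) : IsUnit (jet (L := L) l (s : MvPolynomial σ R)) := by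
  rw [TrivSqZeroExt.isUnit_iff_isUnit_fst]
  simpa [jet] using IsLocalization.map_units L s

/-- The extension of `∂/∂X_l` to fractions. -/
noncomputable def partialLift (l : σ) : L →+* TrivSqZeroExt L L :=
  IsLocalization.lift (M := S) (g := jet (L := L) l) (isUnit_jet S l)

theorem fst_partialLift (l : σ) (z : L) : (partialLift S l z).fst = z := by
  have h : (TrivSqZeroExt.fstHom L L L).toRingHom.comp (partialLift S l) = RingHom.id L := by
    refine IsLocalization.ringHom_ext S (RingHom.ext fun f => ?_)
    show (partialLift S l (algebraMap _ L f)).fst = algebraMap _ L f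
    rw [partialLift, IsLocalization.lift_eq]
    simp [jet]
  exact RingHom.congr_fun h z

/-- The partial derivative of a fraction. -/
noncomputable def partialAt (l : σ) (z : L) : L := (partialLift S l z).snd

theorem partialAt_add (l : σ) (y z : L) : partialAt S l (y + z) = partialAt S l y + partialAt S l z := by
  simp [partialAt]

theorem partialAt_mul (l : σ) (y z : L) :
    partialAt S l (y * z) = y * partialAt S l z + z * partialAt S l y := by
  simp [partialAt, snd_mul, fst_partialLift, mul_comm]

theorem partialAt_algebraMap (l : σ) (f : MvPolynomial σ R) :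
    partialAt S l (algebraMap _ L f) = algebraMap _ L (pderiv l f) := by
  simp [partialAt, partialLift, IsLocalization.lift_eq, jet]

theorem partialAt_mk' (l : σ) (a : MvPolynomial σ R) (s : S) :
    partialAt S l (IsLocalization.mk' L a s) =
      IsLocalization.mk' L ((s : MvPolynomial σ R) * pderiv l a - a * pderiv l (s : MvPolynomial σ R)) (s * s) := by
  refine IsLocalization.eq_mk'_iff_mul_eq.2 ?_
  have h := congrArg (partialAt S l) (IsLocalization.mk'_spec L a s)
  rw [partialAt_mul, partialAt_algebraMap, partialAt_algebraMap] at h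
  have h2 := IsLocalization.mk'_spec L a s
  simp only [Submonoid.coe_mul, map_mul, map_sub]
  linear_combination (algebraMap (MvPolynomial σ R) L (s : MvPolynomial σ R)) * h -
    algebraMap (MvPolynomial σ R) L (pderiv l (s : MvPolynomial σ R)) * h2

/-- Euler's identity for fractions of degree zero. -/
theorem sum_mul_partialAt [Fintype σ] {d : ℕ} {a : MvPolynomial σ R} (ha : a.IsHomogeneous d) (s : S)
    (hs : (s : MvPolynomial σ R).IsHomogeneous d) :
    ∑ l, algebraMap (MvPolynomial σ R) L (X l) * partialAt S l (IsLocalization.mk' L a s) = 0 := by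
  simp only [partialAt_mk' (S := S), IsLocalization.mul_mk'_eq_mk'_of_mul]
  rw [← IsLocalization.mk'_zero (S := L) (M := S) (s * s)]
  have : ∑ l, X l * ((s : MvPolynomial σ R) * pderiv l a - a * pderiv l (s : MvPolynomial σ R)) = 0 := by
    have e1 := ha.sum_X_mul_pderiv
    have e2 := hs.sum_X_mul_pderiv
    simp only [mul_sub, Finset.sum_sub_distrib, mul_left_comm (X _ : MvPolynomial σ R), ← Finset.mul_sum, e1, e2,
      smul_mul_assoc, mul_smul_comm]
    rw [mul_comm]
    exact sub_self _
  calc ∑ l, IsLocalization.mk' L (X l * ((s : MvPolynomial σ R) * pderiv l a - a * pderiv l (s : MvPolynomial σ R))) (s * s)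
      = IsLocalization.mk' L (∑ l, X l * ((s : MvPolynomial σ R) * pderiv l a - a * pderiv l (s : MvPolynomial σ R))) (s * s) := by
        rw [IsLocalization.mk'_eq_mul_mk'_one (∑ _ , _), map_sum, Finset.sum_mul]
        exact Finset.sum_congr rfl fun l _ => IsLocalization.mk'_eq_mul_mk'_one _ _
    _ = _ := by rw [this]

theorem isHomogeneous_num {d : ℕ} {a s : MvPolynomial σ R} (ha : a.IsHomogeneous d) (hs : s.IsHomogeneous d)
    (l : σ) : (s * pderiv l a - a * pderiv l s).IsHomogeneous (d + d - 1) := by
  have h := (hs.mul (ha.pderiv (i := l))).sub (show (a * pderiv l s).IsHomogeneous (d + (d - 1)) from ha.mul (hs.pderiv (i := l)))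
  rwa [show d + d - 1 = d + (d - 1) by omega]

end Groth.Agent.H02CA.Euler
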