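import Groth.Agent.H02CA.Euler.Chart
import Groth.Agent.H11Tilde.TwistInv

/-!
The Euler sequence `0 → Ω → O(-1)^(n+1) → O → 0` on projective space over a ring.
-/

set_option autoImplicit false
set_option backward.isDefEq.respectTransparency false

universe u

open CategoryTheory CategoryTheory.Limits AlgebraicGeometry TopologicalSpace Opposite MvPolynomial
open Groth.Agent.H11Tilde Groth.Agent.H10Coh.Pn

namespace Groth.Agent.H02CA.Euler

variable {n : ℕ} {R : Type u} [CommRing R]

local notation "P" => Proj (Gr n R)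
local notation "Ax" x => GrTwist.Loc (Gr n R) x

/-- Multiplication by a linear form, with the degree as computed. -/
noncomputable def smulX (l : Fin (n + 1)) (m : ℤ) : Od n R m ⟶ Od n R (m + ((1 : ℕ) : ℤ)) :=
  ⟨PresheafOfModules.homMk
    { app := fun U => AddCommGrpCat.ofHom (GrMod.smulSect (Gr n R) (Gr n R) (d := 1) ⟨X l, X_mem l⟩ m U)
      naturality := fun _ _ _ => rfl }
    fun U r s => sect_ext (Gr n R) (Gr n R) fun x => by
      change (Localization.mk (X l) (1 : primeC x.1) : Ax x.1) •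
        ((r.1 x).val • ((s.1 x : GrMod.tildeAt (Gr n R) (Gr n R) m x.1) : GrMod.LocMod (Gr n R)
          (M := MvPolynomial (Fin (n + 1)) R) x.1)) =
        (r.1 x).val • ((Localization.mk (X l) (1 : primeC x.1) : Ax x.1) •
        ((s.1 x : GrMod.tildeAt (Gr n R) (Gr n R) m x.1) : GrMod.LocMod (Gr n R)
          (M := MvPolynomial (Fin (n + 1)) R) x.1))
      exact smul_comm (Localization.mk (X l) (1 : primeC x.1) : Ax x.1) _ _⟩

/-- Multiplication by `X l`. -/
noncomputable def mulX (l : Fin (n + 1)) (m m' : ℤ) (h : m + ((1 : ℕ) : ℤ) = m') : Od n R m ⟶ Od n R m' :=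
  smulX l m ≫ eqToHom (congrArg (Od n R) h)

theorem sval_mulX (l : Fin (n + 1)) (m m' : ℤ) (h : m + ((1 : ℕ) : ℤ) = m') {U : (P).Opens} (s : Γ(Od n R m, U)) (x : U) :
    sval (Gr n R) (Gr n R) ((mulX l m m' h).app U s) x =
      (show GrTwist.Loc (Gr n R) x.1 from Localization.mk (X l) 1) •
        sval (Gr n R) (Gr n R) s x := by
  subst h
  rw [mulX, eqToHom_refl, Category.comp_id]
  rfl

theorem app_res {M N : (Proj (Gr n R)).Modules} (a : M ⟶ N) {U V : (P).Opens} (e : V ≤ U) (s : Γ(M, U)) :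
    a.app V (M.presheaf.map (homOfLE e).op s) = N.presheaf.map (homOfLE e).op (a.app U s) :=
  congr($(a.mapPresheaf.naturality (homOfLE e).op) s)

/-- The projection to the `l`-th summand. -/
noncomputable def proj {X : Scheme.{u}} {ι : Type} [Fintype ι] [DecidableEq ι] (M : ι → X.Modules) (l : ι) :
    (∐ M) ⟶ M l :=
  Sigma.desc fun m => if h : m = l then eqToHom (congrArg M h) else 0

theorem ι_proj {X : Scheme.{u}} {ι : Type} [Fintype ι] [DecidableEq ι] (M : ι → X.Modules) (m l : ι) :
    Sigma.ι M m ≫ proj M l = if h : m = l then eqToHom (congrArg M h) else 0 := Sigma.ι_desc _ _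

theorem sum_proj_ι {X : Scheme.{u}} {ι : Type} [Fintype ι] [DecidableEq ι] (M : ι → X.Modules) :
    ∑ l, proj M l ≫ Sigma.ι M l = 𝟙 (∐ M) := by
  refine Sigma.hom_ext _ _ fun m => ?_
  rw [Preadditive.comp_sum, Finset.sum_eq_single m]
  · rw [← Category.assoc, ι_proj, dif_pos rfl, eqToHom_refl, Category.id_comp, Category.comp_id]
  · intro b _ hb
    rw [← Category.assoc, ι_proj, dif_neg (Ne.symm hb), zero_comp]
  · simp

theorem app_sum_apply {X : Scheme.{u}} {M N : X.Modules} {ι : Type*} (s : Finset ι) (φ : ι → (M ⟶ N))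
    (U : X.Opens) (a : Γ(M, U)) : (∑ i ∈ s, φ i).app U a = ∑ i ∈ s, (φ i).app U a := by
  classical
  induction s using Finset.induction_on with
  | empty => rfl
  | insert i t hi ih => rw [Finset.sum_insert hi, Finset.sum_insert hi, ← ih]; rfl

theorem sval_sum {m : ℤ} {U : (P).Opens} {ι : Type*} (s : Finset ι) (σ : ι → Γ(Od n R m, U)) (x : U) :
    sval (Gr n R) (Gr n R) (∑ i ∈ s, σ i) x = ∑ i ∈ s, sval (Gr n R) (Gr n R) (σ i) x := by
  classical
  induction s using Finset.induction_on with
  | empty => rfl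
  | insert i t hi ih => rw [Finset.sum_insert hi, Finset.sum_insert hi, sval_add', ih]

variable {Ω : (Proj (Gr n R)).Modules} (d : OmegaSh.Der (CohB1.ProjSpace.toSpec n R) Ω)
  (hd : OmegaSh.IsUniversal d)

/-- The `l`-th component `Ω → O(-1)`. -/
noncomputable def component (l : Fin (n + 1)) : Ω ⟶ Od n R (-1) := (hd _ (partialDer l)).choose

theorem component_d (l : Fin (n + 1)) (U : (P).Opens) (r : Γ(P, U)) :
    (component d hd l).app U (d.app U r) = (partialDer l).app U r :=
  PresheafOfModules.Derivation.congr_d (hd _ (partialDer l)).choose_spec.1 (X := op U) r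

/-- `Ω → O(-1)^(n+1)`. -/
noncomputable def eulerι : Ω ⟶ ∐ fun _ : Fin (n + 1) => Od n R (-1) :=
  ∑ l, component d hd l ≫ Sigma.ι (fun _ : Fin (n + 1) => Od n R (-1)) l

/-- `O(-1)^(n+1) → O`. -/
noncomputable def eulerπ : (∐ fun _ : Fin (n + 1) => Od n R (-1)) ⟶ Od n R 0 :=
  Sigma.desc fun l => mulX l (-1) 0 rfl

theorem eulerι_proj (l : Fin (n + 1)) :
    eulerι d hd ≫ proj (fun _ : Fin (n + 1) => Od n R (-1)) l = component d hd l := by
  rw [eulerι, Preadditive.sum_comp, Finset.sum_eq_single l]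
  · rw [Category.assoc, ι_proj, dif_pos rfl, eqToHom_refl, Category.comp_id]
  · intro b _ hb; rw [Category.assoc, ι_proj, dif_neg hb, comp_zero]
  · simp

theorem eulerι_π : eulerι d hd ≫ eulerπ (n := n) (R := R) = 0 := by
  rw [eulerι, eulerπ, Preadditive.sum_comp]
  simp only [Category.assoc, Sigma.ι_desc]
  have hzero : d.postcomp (0 : Ω ⟶ Od n R 0).val =
      d.postcomp (∑ l, component d hd l ≫ mulX l (-1) 0 rfl).val := by
    refine PresheafOfModules.Derivation.ext (funext fun U => AddMonoidHom.ext fun (r : Γ(P, U.unop)) => ?_)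
    show (0 : Γ(Od n R 0, U.unop)) = (∑ l, component d hd l ≫ mulX l (-1) 0 rfl).app U.unop (d.app U.unop r)
    rw [app_sum_apply]
    refine sval_ext _ _ fun x => ?_
    rw [sval_sum, sval_zero]
    obtain ⟨W, hxW, hW, e, a, s, ha, hs, hnin, hv⟩ := exists_local U.unop r x
    refine (Eq.trans (Finset.sum_congr rfl fun l _ => ?_)
      (sum_mul_partialAt (S := primeC x.1) (L := Ax x.1) ha ⟨s, hnin x.1 hxW⟩ hs)).symm
    show sval _ _ ((mulX l (-1) 0 rfl).app U.unop ((component d hd l).app U.unop (d.app U.unop r))) x = _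
    rw [sval_mulX, component_d, sval_partialDer, show fval (Gr n R) r x = _ from hv ⟨x.1, hxW⟩, smul_eq_mul,
      Localization.mk_one_eq_algebraMap, Localization.mk_eq_mk']
  exact (hd _ (d.postcomp (0 : Ω ⟶ Od n R 0).val)).unique hzero.symm rfl

/-- The Euler sequence as a short complex. -/
noncomputable def eulerComplex : ShortComplex (Proj (Gr n R)).Modules :=
  ShortComplex.mk (eulerι d hd) eulerπ (eulerι_π d hd)

theorem sval_component_tt {V : (P).Opens} (i j l : Fin (n + 1)) (hV : V ≤ chart i) (x : V) :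
    sval (Gr n R) (Gr n R) ((component d hd l).app V (d.app V ((P).presheaf.map (homOfLE hV).op (tt i j)))) x =
      (if j = l then (1 : Ax x.1) else 0) * Localization.mk 1 ⟨X i, hV x.2⟩ -
      (if i = l then (1 : Ax x.1) else 0) * Localization.mk (X j) 1 * Localization.mk 1 ⟨X i, hV x.2⟩ ^ 2 := by
  rw [component_d, sval_partialDer, fval_map, fval_tt, dAt_mk]
  simp only [pderiv_X, Pi.single_apply]
  have h1 : ∀ p : Prop, ∀ [Decidable p], (if p then (1 : Ax x.1) else 0) = Localization.mk (if p then 1 else 0) 1 := by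
    intro p _; split_ifs
    · exact Localization.mk_one.symm
    · exact (Localization.mk_zero _).symm
  rw [h1, h1, Localization.mk_pow, Localization.mk_mul, Localization.mk_mul, Localization.mk_mul, one_pow, one_mul,
    one_mul, mul_one, mul_one, Localization.sub_mk]
  refine Localization.mk_eq_mk_iff.2 (Localization.r_iff_exists.2 ⟨1, ?_⟩)
  simp only [OneMemClass.coe_one, one_mul, Submonoid.coe_mul, SubmonoidClass.coe_pow, eq_comm (a := l)]
  ring

/-- Uniform formula for a combination of the differentials of the ratios. -/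
theorem sval_component_sum {V : (P).Opens} (i l : Fin (n + 1)) (hV : V ≤ chart i) (g : Fin (n + 1) → Γ(P, V))
    (x : V) :
    sval (Gr n R) (Gr n R)
        ((component d hd l).app V (∑ j, g j • d.app V ((P).presheaf.map (homOfLE hV).op (tt i j)))) x =
      fval (Gr n R) (g l) x * Localization.mk 1 ⟨X i, hV x.2⟩ -
      (if i = l then (1 : Ax x.1) else 0) * Localization.mk 1 ⟨X i, hV x.2⟩ ^ 2 *
        ∑ j, fval (Gr n R) (g j) x * Localization.mk (X j) 1 := by
  rw [map_sum, sval_sum]
  have h : ∀ j, sval (Gr n R) (Gr n R) ((component d hd l).app V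
      (g j • d.app V ((P).presheaf.map (homOfLE hV).op (tt i j)))) x =
      (if j = l then fval (Gr n R) (g j) x * Localization.mk 1 ⟨X i, hV x.2⟩ else 0) -
      (if i = l then (1 : Ax x.1) else 0) * Localization.mk 1 ⟨X i, hV x.2⟩ ^ 2 *
        (fval (Gr n R) (g j) x * Localization.mk (X j) 1) := fun j => by
    rw [Scheme.Modules.Hom.app_smul, sval_smul, sval_component_tt d hd i j l hV x, smul_eq_mul]
    split_ifs <;> ring
  simp only [h]
  rw [Finset.sum_sub_distrib, Finset.sum_ite_eq', if_pos (Finset.mem_univ l), ← Finset.mul_sum]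

theorem mono_eulerι : Mono (eulerι d hd) := by
  refine mono_of_injective _ fun W ω hω x hx => ?_
  obtain ⟨i, hi⟩ := H11Ample.exists_mem_basicOpen_X (n := n) (R := R) x
  have hc : ∀ l, (component d hd l).app W ω = 0 := fun l => by
    rw [← eulerι_proj d hd l]
    show (proj _ l).app W ((eulerι d hd).app W ω) = 0
    rw [hω, map_zero]
  have htop := chartSpan_eq_top d hd i ⟨x, hi⟩
  obtain ⟨c, hcs⟩ := (Submodule.mem_span_range_iff_exists_fun _).1
    (show Ω.presheaf.germ W x hx ω ∈ chartSpan d i ⟨x, hi⟩ from htop ▸ Submodule.mem_top)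
  choose U hU r hr using fun j => (P).presheaf.exists_germ_eq (c j)
  let W₁ : (P).Opens := W ⊓ chart i ⊓ ⟨⋂ j, (U j : Set (P)), isOpen_iInter_of_finite fun j => (U j).2⟩
  have hxW₁ : x ∈ W₁ := ⟨⟨hx, hi⟩, Set.mem_iInter.2 hU⟩
  have hU' : ∀ j, W₁ ≤ U j := fun j y hy => Set.mem_iInter.1 hy.2 j
  let g : Fin (n + 1) → Γ(P, W₁) := fun j => (P).presheaf.map (homOfLE (hU' j)).op (r j)
  let τ : Γ(Ω, W₁) := ∑ j, g j • d.app W₁ ((P).presheaf.map (homOfLE (inf_le_left.trans inf_le_right : W₁ ≤ chart i)).op (tt i j))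
  have hgerm : Ω.presheaf.germ W₁ x hxW₁ (Ω.presheaf.map (homOfLE (inf_le_left.trans inf_le_left : W₁ ≤ W)).op ω) =
      Ω.presheaf.germ W₁ x hxW₁ τ := by
    rw [TopCat.Presheaf.germ_res_apply, ← hcs, map_sum]
    refine Finset.sum_congr rfl fun j _ => ?_
    rw [H06Mod.germ_smul]
    refine congrArg₂ (· • ·) ((hr j).symm.trans (TopCat.Presheaf.germ_res_apply _ _ _ _ _).symm) ?_
    erw [d.d_map, TopCat.Presheaf.germ_res_apply]
    rfl
  obtain ⟨W₂, hxW₂, iA, iB, heq⟩ := TopCat.Presheaf.germ_eq Ω.presheaf x hxW₁ hxW₁ _ _ hgerm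
  let g₂ : Fin (n + 1) → Γ(P, W₂) := fun j => (P).presheaf.map iB.op (g j)
  have hW₂ : W₂ ≤ chart i := iB.le.trans (inf_le_left.trans inf_le_right)
  have hω₂ : Ω.presheaf.map (homOfLE (iA.le.trans (inf_le_left.trans inf_le_left) : W₂ ≤ W)).op ω =
      ∑ j, g₂ j • d.app W₂ ((P).presheaf.map (homOfLE hW₂).op (tt i j)) := by
    refine Eq.trans ?_ (heq.trans ?_)
    · exact ((ConcreteCategory.comp_apply _ _ _).symm.trans (congr($((Ω.presheaf.map_comp _ _).symm) ω))).symm
    · show Ω.presheaf.map iB.op (∑ j, _ • _) = _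
      rw [map_sum]
      refine Finset.sum_congr rfl fun j _ => ?_
      rw [Scheme.Modules.map_smul]
      refine congrArg (_ • ·) ?_
      erw [← d.d_map iB.op]
      refine congrArg (d.app W₂) ?_
      exact rmap_rmap _ _ _ _
  refine ⟨W₂, iA.le.trans (inf_le_left.trans inf_le_left), hxW₂, ?_⟩
  rw [hω₂]
  refine Finset.sum_eq_zero fun j _ => ?_
  by_cases hji : j = i
  · subst hji
    have h1 : tt (n := n) (R := R) j j = 1 := fval_ext _ fun y => by
      rw [fval_tt, fval_one]
      exact Localization.mk_self (⟨X j, y.2⟩ : primeC y.1)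
    rw [h1, map_one]
    erw [d.d_one (op W₂)]
    exact smul_zero _
  · suffices hg : g₂ j = 0 by rw [hg, zero_smul]
    refine fval_ext _ fun y => ?_
    have h := congrArg (fun t => sval (Gr n R) (Gr n R) t y) (congrArg ((component d hd j).app W₂) hω₂)
    simp only [sval_component_sum d hd i j hW₂ g₂ y, if_neg (Ne.symm hji), zero_mul, sub_zero] at h
    have h0 : (component d hd j).app W₂ (Ω.presheaf.map (homOfLE (iA.le.trans (inf_le_left.trans inf_le_left) : W₂ ≤ W)).op ω) = 0 := by
      rw [app_res, hc j, map_zero]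
    rw [h0, sval_zero] at h
    rw [fval_zero]
    have hu : IsUnit (Localization.mk 1 ⟨X i, hW₂ y.2⟩ : Ax y.1) :=
      (isUnit_mk_iff (Gr n R) y.1 1 _).2 fun h => y.1.isPrime.ne_top ((Ideal.eq_top_iff_one _).2 h)
    exact (hu.mul_left_eq_zero).1 h.symm

theorem exact_euler : (eulerComplex d hd).Exact ∧ Epi (eulerπ (n := n) (R := R)) := by
  haveI := mono_eulerι d hd
  constructor
  · refine ShortComplex.exact_of_f_is_kernel _ ?_
    haveI : Mono (kernel.lift (eulerπ (n := n) (R := R)) (eulerι d hd) (eulerι_π d hd)) :=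
      mono_of_mono_fac (kernel.lift_ι _ _ _)
    haveI : Epi (kernel.lift (eulerπ (n := n) (R := R)) (eulerι d hd) (eulerι_π d hd)) := by
      refine epi_of_locally_surjective _ fun W t x hx => ?_
      obtain ⟨i, hi⟩ := H11Ample.exists_mem_basicOpen_X (n := n) (R := R) x
      let V : (P).Opens := W ⊓ chart i
      refine ⟨V, inf_le_left, ⟨hx, hi⟩, ?_⟩
      set M : Fin (n + 1) → (P).Modules := fun _ => Od n R (-1)
      let s : Γ(∐ M, V) := (kernel.ι (eulerπ (n := n) (R := R))).app V ((kernel (eulerπ (n := n) (R := R))).presheaf.map (homOfLE inf_le_left).op t)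
      have hs : (eulerπ (n := n) (R := R)).app V s = 0 := by
        show (kernel.ι (eulerπ (n := n) (R := R)) ≫ eulerπ).app V _ = 0
        rw [kernel.condition]
        rfl
      let gen : Γ(Od n R (-1), V) := secOf (Gr n R) (Gr n R) (SetLike.one_mem_graded (Gr n R)) (X_mem (R := R) i)
        (fun y (hy : y ∈ V) => (hy.2 : y ∈ chart i)) (by simp)
      choose g hg using fun l => (bijective_smul_gen (Gr n R) (SetLike.one_mem_graded (Gr n R)) (X_mem (R := R) i)
        (fun y _ => one_notMem (Gr n R) y) (fun y (hy : y ∈ V) => (hy.2 : y ∈ chart i)) (by simp) gen fun _ => rfl).2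
        ((proj M l).app V s)
      have hdec : s = ∑ l, (Sigma.ι M l).app V ((proj M l).app V s) := by
        have h := congrArg (fun φ : ∐ M ⟶ ∐ M => φ.app V s) (sum_proj_ι M)
        simp only [app_sum_apply] at h
        exact h.symm
      have hsum : ∀ y : V, ∑ j, fval (Gr n R) (g j) y * Localization.mk (X j) 1 = 0 := by
        intro y
        have h := congrArg (fun σ => sval (Gr n R) (Gr n R) σ y) hs
        rw [hdec, map_sum] at h
        simp only [sval_sum, sval_zero] at h
        have hterm : ∀ j, sval (Gr n R) (Gr n R) ((eulerπ (n := n) (R := R)).app V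
            ((Sigma.ι M j).app V ((proj M j).app V s))) y =
            Localization.mk 1 ⟨X i, (y.2.2 : y.1 ∈ chart i)⟩ * (fval (Gr n R) (g j) y * Localization.mk (X j) 1) := by
          intro j
          show sval _ _ ((Sigma.ι M j ≫ eulerπ).app V ((proj M j).app V s)) y = _
          rw [eulerπ, Sigma.ι_desc, sval_mulX, ← hg j, sval_smul,
            show sval (Gr n R) (Gr n R) gen y = Localization.mk 1 ⟨X i, (y.2.2 : y.1 ∈ chart i)⟩ from rfl]
          simp only [smul_eq_mul]
          ring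
        rw [Finset.sum_congr rfl fun j _ => hterm j, ← Finset.mul_sum] at h
        exact ((isUnit_mk_iff (Gr n R) y.1 1 _).2 fun h' => y.1.isPrime.ne_top ((Ideal.eq_top_iff_one _).2 h')).mul_right_eq_zero.1 h
      refine ⟨∑ j, g j • d.app V ((P).presheaf.map (homOfLE (inf_le_right : V ≤ chart i)).op (tt i j)), ?_⟩
      refine H10Coh.injective_app_of_mono' (kernel.ι (eulerπ (n := n) (R := R))) V ?_
      show (kernel.lift (eulerπ (n := n) (R := R)) (eulerι d hd) (eulerι_π d hd) ≫ kernel.ι _).app V _ = s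
      rw [kernel.lift_ι, hdec, eulerι, app_sum_apply]
      refine Finset.sum_congr rfl fun l _ => congrArg ((Sigma.ι M l).app V) (sval_ext _ _ fun y => ?_)
      refine (sval_component_sum d hd i l inf_le_right g y).trans ?_
      rw [hsum y, mul_zero, sub_zero, ← hg l, sval_smul]
      rfl
    haveI := isIso_of_mono_of_epi (kernel.lift (eulerπ (n := n) (R := R)) (eulerι d hd) (eulerι_π d hd))
    exact IsLimit.ofIsoLimit (kernelIsKernel _) (Fork.ext
      (asIso (kernel.lift (eulerπ (n := n) (R := R)) (eulerι d hd) (eulerι_π d hd))).symm (by simp [eulerComplex]))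
  · refine epi_of_locally_surjective _ fun W t x hx => ?_
    obtain ⟨i, hi⟩ := H11Ample.exists_mem_basicOpen_X (n := n) (R := R) x
    let V : (P).Opens := W ⊓ chart i
    let one0 : Γ(Od n R 0, V) := secOf (Gr n R) (Gr n R) (SetLike.one_mem_graded (Gr n R))
      (SetLike.one_mem_graded (Gr n R)) (fun y _ => one_notMem (Gr n R) y) (by simp)
    let gen : Γ(Od n R (-1), V) := secOf (Gr n R) (Gr n R) (SetLike.one_mem_graded (Gr n R)) (X_mem (R := R) i)
      (fun y (hy : y ∈ V) => (hy.2 : y ∈ chart i)) (by simp)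
    obtain ⟨r, hr⟩ := (bijective_smul_gen (Gr n R) (SetLike.one_mem_graded (Gr n R))
      (SetLike.one_mem_graded (Gr n R)) (fun y _ => one_notMem (Gr n R) y) (fun y _ => one_notMem (Gr n R) y)
      (by simp) one0 fun _ => rfl).2 ((Od n R 0).presheaf.map (homOfLE (inf_le_left : V ≤ W)).op t)
    refine ⟨V, inf_le_left, ⟨hx, hi⟩, (Sigma.ι (fun _ : Fin (n + 1) => Od n R (-1)) i).app V (r • gen), ?_⟩
    rw [← hr]
    show (Sigma.ι _ i ≫ eulerπ).app V (r • gen) = r • one0
    rw [eulerπ, Sigma.ι_desc, Scheme.Modules.Hom.app_smul]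
    refine congrArg (r • ·) (sval_ext _ _ fun y => ?_)
    rw [sval_mulX]
    show (Localization.mk (X i) 1 : Ax y.1) * Localization.mk 1 ⟨X i, y.2.2⟩ = Localization.mk 1 ⟨1, one_notMem _ y.1⟩
    rw [Localization.mk_mul]
    refine Localization.mk_eq_mk_iff.2 (Localization.r_iff_exists.2 ⟨1, ?_⟩)
    simp

theorem shortExact_euler : (eulerComplex d hd).ShortExact :=
  haveI := mono_eulerι d hd
  haveI := (exact_euler d hd).2
  { exact := (exact_euler d hd).1, mono_f := mono_eulerι d hd, epi_g := (exact_euler d hd).2 }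

end Groth.Agent.H02CA.Euler
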