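import Groth.Agent.H02CA.Euler.Main
import Groth.Agent.H02CA.Euler.EndTwist
import Groth.Agent.H29RR.P1Split
import Groth.Agent.H29RR.Invert
import Groth.Agent.LeadPic.PnRel

/-!
Maps out of the sheaf of differentials of projective space into `O(-1)`; simplicity.
-/

set_option autoImplicit false
set_option linter.style.haveILetI false
set_option backward.isDefEq.respectTransparency false

universe u

open CategoryTheory CategoryTheory.Limits AlgebraicGeometry TopologicalSpace Opposite MvPolynomial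
open Groth.Agent.H11Tilde Groth.Agent.H10Coh.Pn

namespace Groth.Agent.H02CA.Euler

variable {k : Type u} [Field k] {n : ℕ}

attribute [local instance] H29RR.PnPic.overSpec
attribute [local instance 10000] H10Coh.hasSheafifyAb H10Coh.hasWeakSheafifyAb H10Coh.hasExtAb H10Coh.enoughInjAb

variable {Ω : (Proj (Gr n k)).Modules} (d : OmegaSh.Der (CohB1.ProjSpace.toSpec n k) Ω)
  (hd : OmegaSh.IsUniversal d)

/-- Maps `Ω → O(-1)` extend to `O(-1)^(n+1)`. -/
theorem exists_extension (ψ : Ω ⟶ Od n k (-1)) :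
    ∃ M : (∐ fun _ : Fin (n + 1) => Od n k (-1)) ⟶ Od n k (-1), eulerι d hd ≫ M = ψ := by
  haveI : IsProper (CohB1.ProjSpace n k ↘ Spec (CommRingCat.of k)) := H27Weil.isProper_toSpec n k
  have hS := shortExact_euler d hd
  haveI : Mono (eulerι d hd) := mono_eulerι d hd
  haveI : Epi (eulerπ (n := n) (R := k)) := (exact_euler d hd).2
  haveI : Epi (eulerComplex d hd).g := hS.epi_g
  let Q := pushout ψ (eulerι d hd)
  let g : Q ⟶ Od n k 0 := pushout.desc 0 eulerπ (by rw [comp_zero]; exact (eulerι_π d hd).symm)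
  have hg : pushout.inl ψ (eulerι d hd) ≫ g = 0 := pushout.inl_desc _ _ _
  haveI : Epi g := by
    haveI : Epi (pushout.inr ψ (eulerι d hd) ≫ g) := by rw [pushout.inr_desc]; infer_instance
    exact epi_of_epi (pushout.inr ψ (eulerι d hd)) g
  let S : ShortComplex (Proj (Gr n k)).Modules := ShortComplex.mk (pushout.inl ψ (eulerι d hd)) g hg
  have hdesc : ∀ {W : (Proj (Gr n k)).Modules} (w : Q ⟶ W), pushout.inl ψ (eulerι d hd) ≫ w = 0 →
      (eulerComplex d hd).f ≫ pushout.inr ψ (eulerι d hd) ≫ w = 0 := fun w hw => by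
    show eulerι d hd ≫ _ = 0
    rw [← Category.assoc, ← pushout.condition, Category.assoc, hw, comp_zero]
  have hS' : S.ShortExact := by
    refine { exact := ShortComplex.exact_of_g_is_cokernel _ ?_, mono_f := inferInstanceAs (Mono (pushout.inl ψ (eulerι d hd))), epi_g := ‹Epi g› }
    refine CokernelCofork.IsColimit.ofπ' g hg fun {W} w hw => ⟨hS.exact.desc (pushout.inr ψ (eulerι d hd) ≫ w) (hdesc w hw), ?_⟩
    refine pushout.hom_ext ?_ ?_
    · rw [← Category.assoc, hg, zero_comp, hw]
    · rw [← Category.assoc, pushout.inr_desc]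
      exact hS.exact.g_desc _ _
  have hT := H10Coh.Stab.isTwistFamily_projSpace n k
  obtain ⟨e00⟩ := hT.add 0 0
  obtain ⟨e0⟩ := hT.zero
  obtain ⟨e10⟩ := hT.add (-1) 0
  haveI := H29RR.isSplitEpi_of_h1 (k := k) hS' (hT.inv 0) (e00 ≪≫ eqToIso (congrArg _ (add_zero (0 : ℤ))) ≪≫ e0)
    (H10Coh.subsingleton_HH_of_iso (e10 ≪≫ eqToIso (congrArg _ (add_zero (-1 : ℤ)))).symm 1
      (H10Coh.Pn.subsingleton_HH_Od 1 (by omega) (by omega)))
  haveI := hS'.mono_f
  let sp := ShortComplex.Splitting.ofExactOfSection S hS'.exact (section_ S.g) (IsSplitEpi.id S.g) inferInstance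
  refine ⟨pushout.inr ψ (eulerι d hd) ≫ sp.r, ?_⟩
  rw [← Category.assoc, ← pushout.condition, Category.assoc]
  exact (congrArg (ψ ≫ ·) sp.f_r).trans (Category.comp_id ψ)

theorem smulModΓ_const_app (M : (Proj (Gr n k)).Modules) (c : k) (U : (Proj (Gr n k)).Opens) (m : Γ(M, U)) :
    (Formal.smulModΓ M (Coh.toGlobal (toS n k) c)).app U m =
      (Proj (Gr n k)).presheaf.map (homOfLE (le_top : U ≤ ⊤)).op (constΓ c) • m :=
  smulModΓ_app _ _ _ _

theorem fval_constΓ_map (c : k) {U : (Proj (Gr n k)).Opens} (y : U) :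
    fval (Gr n k) ((Proj (Gr n k)).presheaf.map (homOfLE (le_top : U ≤ ⊤)).op (constΓ c)) y =
      Localization.mk (C c) 1 := by
  obtain ⟨i, hi⟩ := H11Ample.exists_mem_basicOpen_X (n := n) (R := k) y.1
  rw [fval_map]
  exact fval_constΓ (X_mem (R := k) i) Nat.one_pos c ⟨y.1, hi⟩

theorem smulModΓ_zero' (M : (Proj (Gr n k)).Modules) :
    Formal.smulModΓ M (Coh.toGlobal (toS n k) (0 : k)) = 0 := by
  refine Scheme.Modules.hom_ext _ _ fun U => ConcreteCategory.hom_ext _ _ fun m => ?_
  rw [map_zero, smulModΓ_app, map_zero, zero_smul]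
  rfl

theorem hom_ext_components {Ω' : (Proj (Gr n k)).Modules} (φ ψ : Ω' ⟶ Ω)
    (h : ∀ l, φ ≫ component d hd l = ψ ≫ component d hd l) : φ = ψ := by
  haveI : Mono (eulerι d hd) := mono_eulerι d hd
  refine (cancel_mono (eulerι d hd)).1 ?_
  rw [← Category.comp_id (φ ≫ _), ← Category.comp_id (ψ ≫ _), ← sum_proj_ι, Preadditive.comp_sum, Preadditive.comp_sum]
  refine Finset.sum_congr rfl fun l _ => ?_
  rw [← Category.assoc, ← Category.assoc, Category.assoc φ, Category.assoc ψ, eulerι_proj, h l]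

include hd in
/-- `Ω` is simple. -/
theorem exists_scalar (φ : Ω ⟶ Ω) : ∃ c : k, φ = Formal.smulModΓ Ω (Coh.toGlobal (toS n k) c) := by
  haveI : IsIntegral (Proj (Gr n k)) := LeadPic.PnRel.isIntegral_projSpace (n := n) k
  haveI : Mono (eulerι d hd) := mono_eulerι d hd
  choose M hM using fun l => exists_extension d hd (φ ≫ component d hd l)
  choose a ha using fun l j => exists_end_eq_smul (Sigma.ι (fun _ : Fin (n + 1) => Od n k (-1)) j ≫ M l)
  -- the components of `φ` are combinations of the components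
  have hcomb : ∀ l, φ ≫ component d hd l =
      ∑ j, component d hd j ≫ Formal.smulModΓ _ (Coh.toGlobal (toS n k) (a l j)) := fun l => by
    rw [← hM l, eulerι, Preadditive.sum_comp]
    exact Finset.sum_congr rfl fun j _ => by rw [Category.assoc, ha]
  -- the matrix commutes with the Euler map up to a scalar
  let Φ : (∐ fun _ : Fin (n + 1) => Od n k (-1)) ⟶ Od n k 0 :=
    Sigma.desc fun j => ∑ l, Formal.smulModΓ _ (Coh.toGlobal (toS n k) (a l j)) ≫ mulX l (-1) 0 rfl
  have hΦ : eulerι d hd ≫ Φ = 0 := by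
    have h1 : eulerι d hd ≫ eulerπ = ∑ l, component d hd l ≫ mulX (R := k) l (-1) 0 rfl := by
      rw [eulerι, eulerπ, Preadditive.sum_comp]
      simp only [Category.assoc, Sigma.ι_desc]
    rw [eulerι, Preadditive.sum_comp]
    simp only [Category.assoc, Φ, Sigma.ι_desc, Preadditive.comp_sum]
    rw [Finset.sum_comm]
    calc ∑ l, ∑ j, component d hd j ≫ Formal.smulModΓ _ (Coh.toGlobal (toS n k) (a l j)) ≫ mulX l (-1) 0 rfl
        = ∑ l, (φ ≫ component d hd l) ≫ mulX l (-1) 0 rfl := Finset.sum_congr rfl fun l _ => by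
          rw [hcomb l, Preadditive.sum_comp]; simp only [Category.assoc]
      _ = 0 := by
          simp only [Category.assoc]
          rw [← Preadditive.comp_sum, ← h1, eulerι_π, comp_zero]
  haveI : Epi (eulerπ (n := n) (R := k)) := (exact_euler d hd).2
  haveI : Epi (eulerComplex d hd).g := (shortExact_euler d hd).epi_g
  let w : Od n k 0 ⟶ Od n k 0 := (shortExact_euler d hd).exact.desc Φ hΦ
  have hw : eulerπ ≫ w = Φ := (shortExact_euler d hd).exact.g_desc Φ hΦ
  obtain ⟨c, hc⟩ : ∃ c : k, w = Formal.smulModΓ _ (Coh.toGlobal (toS n k) c) := exists_end_zero w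
  have hval : ∀ j, (∑ l, Formal.smulModΓ _ (Coh.toGlobal (toS n k) (a l j)) ≫ mulX l (-1) 0 rfl) =
      Formal.smulModΓ _ (Coh.toGlobal (toS n k) c) ≫ mulX (R := k) j (-1) 0 rfl := fun j => by
    have h1 := congrArg (Sigma.ι (fun _ : Fin (n + 1) => Od n k (-1)) j ≫ ·) hw
    simp only [Φ, eulerπ, Sigma.ι_desc_assoc, Sigma.ι_desc] at h1
    rw [← h1, hc, smulModΓ_natural]
  have hne : Nonempty (Proj (Gr n k)) := ⟨genericPoint _⟩
  have ha' : ∀ l j, a l j = if l = j then c else 0 := by
    intro l j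
    refine sub_eq_zero.1 (eq_zero_of_sum_mk (fun l => a l j - if l = j then c else 0) (fun y => ?_) l)
    obtain ⟨i, hi⟩ := H11Ample.exists_mem_basicOpen_X (n := n) (R := k) y
    have h := congrArg (fun s => sval (Gr n k) (Gr n k) s (⟨y, hi⟩ : chart (R := k) i))
      (congrArg (fun ψ : Od n k (-1) ⟶ Od n k 0 => ψ.app (chart i) (genNeg i le_rfl)) (hval j))
    simp only [app_sum_apply, sval_sum] at h
    have key : ∀ (b : k) (m : Fin (n + 1)), sval (Gr n k) (Gr n k)
        ((Formal.smulModΓ _ (Coh.toGlobal (toS n k) b) ≫ mulX m (-1) 0 rfl).app (chart i) (genNeg i le_rfl))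
        (⟨y, hi⟩ : chart (R := k) i) =
        Localization.mk (C b * X m) 1 * Localization.mk 1 ⟨X i, hi⟩ := by
      intro b m
      show sval _ _ ((mulX m (-1) 0 rfl).app (chart i)
        ((Formal.smulModΓ _ (Coh.toGlobal (toS n k) b)).app (chart i) (genNeg i le_rfl))) _ = _
      rw [sval_mulX, smulModΓ_const_app, sval_smul, fval_constΓ_map, sval_genNeg]
      simp only [smul_eq_mul]
      rw [← mul_assoc, Localization.mk_mul, one_mul, mul_comm (X m)]
    simp only [key, ← Finset.sum_mul] at h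
    replace h := ((isUnit_mk_iff (Gr n k) y 1 _).2 (one_notMem (Gr n k) y)).mul_left_injective h
    simp only [Localization.mk_one_eq_algebraMap] at h ⊢
    rw [← map_sum] at h
    rw [← sub_eq_zero, ← map_sub] at h
    refine Eq.trans ?_ h
    congr 1
    simp only [map_sub, sub_mul, Finset.sum_sub_distrib, apply_ite (C (R := k) (σ := Fin (n + 1))), map_zero,
      ite_mul, zero_mul, Finset.sum_ite_eq', Finset.mem_univ, if_true]
  refine ⟨c, hom_ext_components d hd φ _ fun l => ?_⟩
  refine (hcomb l).trans ((Finset.sum_eq_single l (fun j _ hj => ?_) (fun h => absurd (Finset.mem_univ l) h)).trans ?_)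
  · rw [ha' l j, if_neg (Ne.symm hj), smulModΓ_zero', comp_zero]
  · rw [ha' l l, if_pos rfl]
    exact (smulModΓ_natural _ _).symm

end Groth.Agent.H02CA.Euler
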